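import Cfsg.Agent.H46.MSUni
import Cfsg.Agent.CTFrame.Hom
import Cfsg.Agent.ChevalleyStructure.Elts
import Cfsg.Agent.S1025
import Cfsg.Agent.S1076
import Cfsg.Prelude.Def_LieTypes

/-!
# Minimal simple subgroups of the Chevalley groups of exceptional type (helper46)

A subsystem of type `A₂` gives `SL₃(F) → G`.
-/

set_option autoImplicit false

namespace Cfsg.Agent.H46.MS

open Matrix Subgroup Cfsg Cfsg.Lie Cfsg.Agent.ChevalleyStructure.Elts
open scoped commutatorElement

/-- the root `e_i - e_j` of the subsystem with simple roots `a`, `b` and `c = a + b` -/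
def rt (D : ChevalleyDatum) (a b c : ℕ) (i j : Fin 3) : ℕ :=
  if i = 0 then (if j = 1 then a else c) else if i = 1 then (if j = 2 then b else D.neg a)
  else if j = 0 then D.neg c else D.neg b

/-- `a`, `b`, `c = a + b` span a subsystem of type `A₂`, with structure constants one -/
structure IsA2 (D : ChevalleyDatum) (a b c : ℕ) : Prop where
  lt : ∀ i j : Fin 3, i ≠ j → rt D a b c i j < D.nroots
  neg : ∀ i j : Fin 3, i ≠ j → D.neg (rt D a b c i j) = rt D a b c j i
  comm : ∀ i j k l : Fin 3, (i ≠ j ∧ k ≠ l ∧ j ≠ k ∧ i ≠ l) → rt D a b c i j = rt D a b c k l ∨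
    (rt D a b c k l ≠ rt D a b c i j ∧ rt D a b c k l ≠ D.neg (rt D a b c i j) ∧
      D.commTerms (rt D a b c i j) (rt D a b c k l) = [])
  br : ∀ i j k : Fin 3, (i ≠ j ∧ j ≠ k ∧ i ≠ k) → rt D a b c j k ≠ rt D a b c i j ∧
    rt D a b c j k ≠ D.neg (rt D a b c i j) ∧
      D.commTerms (rt D a b c i j) (rt D a b c j k) = [(rt D a b c i k, 1, 1, 1)]

section

variable {K₀ K : Type*} [Field K₀] [Field K] {D : ChevalleyDatum} (hD : InList D) {a b c : ℕ}
  (f : K₀ →+* K)

/-- the root elements -/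
def rx (a b c : ℕ) (i j : Fin 3) (t : K₀) : GL D.Idx K := xG hD (rt D a b c i j) (f t)

theorem rx_stein (h : IsA2 D a b c) : AGraded.SteinRel (rx hD f a b c) := by
  have hcom : ∀ i j k l : Fin 3, i ≠ j → k ≠ l → j ≠ k → i ≠ l → ∀ s t : K₀,
      rx hD f a b c i j s * rx hD f a b c k l t = rx hD f a b c k l t * rx hD f a b c i j s := by
    intro i j k l hij hkl hjk hil s t
    rcases h.comm i j k l ⟨hij, hkl, hjk, hil⟩ with e | ⟨h1, h2, h3⟩
    · unfold rx
      rw [e, xG_add, xG_add, add_comm]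
    · have key := S1025.result (F := K) D hD _ _ (h.lt i j hij) (h.lt k l hkl) h1 h2 (f s) (f t)
      rw [ChevalleyDatum.commWord, h3] at key
      apply Units.ext
      change D.x K (rt D a b c i j) (f s) * D.x K (rt D a b c k l) (f t) =
        D.x K (rt D a b c k l) (f t) * D.x K (rt D a b c i j) (f s)
      rw [key]
      simp [ChevalleyDatum.wordMat]
  refine ⟨?_, hcom, ?_⟩
  · intro i j _ s t
    unfold rx
    rw [xG_add, map_add]
  · intro i j k hij hjk hik s t
    obtain ⟨h1, h2, h3⟩ := h.br i j k ⟨hij, hjk, hik⟩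
    have key := S1025.result (F := K) D hD _ _ (h.lt i j hij) (h.lt j k hjk) h1 h2 (f s) (f t)
    have hz : D.wordMat K (D.commWord K (rt D a b c i j) (rt D a b c j k) (f s) (f t)) =
        D.x K (rt D a b c i k) (-(f s * f t)) := by
      rw [ChevalleyDatum.commWord, h3]
      simp [ChevalleyDatum.wordMat]
    rw [hz] at key
    have key' : rx hD f a b c j k t * rx hD f a b c i j s =
        rx hD f a b c i j s * rx hD f a b c j k t * rx hD f a b c i k (-(s * t)) := by
      apply Units.ext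
      change D.x K _ _ * D.x K _ _ = D.x K _ _ * D.x K _ _ * D.x K _ (f (-(s * t)))
      rw [map_neg, map_mul]
      exact key
    have hinv : ∀ u : K₀, rx hD f a b c i k (-u) = (rx hD f a b c i k u)⁻¹ := by
      intro u
      unfold rx
      rw [xG_inv, map_neg]
    rw [hinv] at key'
    have c1 := hcom i j i k hij hik (Ne.symm hij) hik s (s * t)
    have c2 := hcom j k i k hjk hik (Ne.symm hik) hjk t (s * t)
    rw [commutatorElement_def]
    have e1 : rx hD f a b c i j s * rx hD f a b c j k t =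
        rx hD f a b c j k t * rx hD f a b c i j s * rx hD f a b c i k (s * t) := by
      rw [key']; group
    rw [e1, mul_assoc (rx hD f a b c j k t), c1, ← mul_assoc, c2]
    group

theorem rx_h (h : IsA2 D a b c) : CTFrame.Torus.HRel (rx hD f a b c) := by
  intro i j hij s t hs ht
  have hw : ∀ u : K₀, CTFrame.Weyl.w (rx hD f a b c) i j u = nG hD (rt D a b c i j) (f u) := by
    intro u
    unfold CTFrame.Weyl.w rx
    rw [nG_def, h.neg i j hij, map_neg, map_inv₀, mul_assoc]
  have ht' : ∀ u : K₀, CTFrame.Weyl.t (rx hD f a b c) i j u = hG hD (rt D a b c i j) (f u) := by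
    intro u
    unfold CTFrame.Weyl.t
    rw [hw, hw, hG_def, map_neg, map_one]
  rw [ht', ht', ht']
  apply Units.ext
  rw [Units.val_mul, coe_hG, coe_hG, coe_hG, map_mul]
  exact S1076.result D hD _ (h.lt i j hij) _ _ (by simpa using hs) (by simpa using ht)

theorem exists_sl_three (h : IsA2 D a b c) :
    ∃ π : Matrix.SpecialLinearGroup (Fin 3) K₀ →* GL D.Idx K,
      π.range = Subgroup.closure (AGraded.gens (rx hD f a b c)) ∧
      π.ker ≤ Subgroup.center (Matrix.SpecialLinearGroup (Fin 3) K₀) := by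
  obtain ⟨π, -, h2, h3⟩ := CTFrame.Hom.exists_hom (rx_stein hD f h) (rx_h hD f h) (by simp)
  refine ⟨π, h2, h3 ⟨0, 1, by decide, 1, ?_⟩⟩
  unfold rx
  rw [map_one, Ne, xG_eq_one_iff hD (h.lt 0 1 (by decide))]
  exact one_ne_zero

/-- the subgroup generated by the rational root elements of the subsystem -/
theorem hasMS_of_a2 [Finite K₀] (h : IsA2 D a b c) (S : Subgroup (GL D.Idx K))
    (hS : ∀ i j : Fin 3, i ≠ j → ∀ t : K₀, xG hD (rt D a b c i j) (f t) ∈ S) : HasMS ↥S := by
  obtain ⟨π, h1, h2⟩ := exists_sl_three hD f h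
  have hle : π.range ≤ S := by
    rw [h1, Subgroup.closure_le]
    rintro g ⟨i, j, hij, t, rfl⟩
    exact hS i j hij t
  have hr : HasMS ↥π.range := by
    refine (hasMS_sl_three K₀).of_hom π.rangeRestrict fun x hx => h2 ?_
    exact congrArg Subtype.val hx
  exact hr.of_le hle

end

theorem isA2_G2 : IsA2 chevG2 6 10 11 := ⟨by decide +kernel, by decide +kernel, by decide +kernel, by decide +kernel⟩
theorem isA2_F4 : IsA2 chevF4 0 24 1 := ⟨by decide +kernel, by decide +kernel, by decide +kernel, by decide +kernel⟩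
theorem isA2_E6 : IsA2 chevE6 39 46 47 := ⟨by decide +kernel, by decide +kernel, by decide +kernel, by decide +kernel⟩
theorem isA2_E7 : IsA2 chevE7 0 93 1 := ⟨by decide +kernel, by decide +kernel, by decide +kernel, by decide +kernel⟩
theorem isA2_E8 : IsA2 chevE8 0 120 1 := ⟨by decide +kernel, by decide +kernel, by decide +kernel, by decide +kernel⟩
theorem isA2_D4 : IsA2 chevD4 14 22 23 := ⟨by decide +kernel, by decide +kernel, by decide +kernel, by decide +kernel⟩

theorem hasMS_group {D : ChevalleyDatum} (hD : InList D) {a b c : ℕ} (h : IsA2 D a b c) (F : Type*) [Field F]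
    [Finite F] : HasMS ↥(D.group F) :=
  hasMS_of_a2 hD (RingHom.id F) h _ fun _ _ _ _ => xG_mem_group hD _ _

theorem hasMS_of_chevG2 {G : Type*} [Group G] (h : IsoChevG2 G) : HasMS G := by
  obtain ⟨F, _, _, -, ⟨e⟩⟩ := h
  exact (hasMS_group (by simp) isA2_G2 F).congr e.symm

theorem hasMS_of_F4 {G : Type*} [Group G] (h : IsoF4 G) : HasMS G := by
  obtain ⟨F, _, _, ⟨e⟩⟩ := h
  exact (hasMS_group (by simp) isA2_F4 F).congr e.symm

theorem hasMS_of_E6 {G : Type*} [Group G] (h : IsoChevE6 G) : HasMS G := by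
  obtain ⟨F, _, _, ⟨e⟩⟩ := h
  exact (hasMS_group (by simp) isA2_E6 F).congr e.symm

theorem hasMS_of_E7 {G : Type*} [Group G] (h : IsoE7 G) : HasMS G := by
  obtain ⟨F, _, _, ⟨e⟩⟩ := h
  exact (hasMS_group (by simp) isA2_E7 F).congr e.symm

theorem hasMS_of_E8 {G : Type*} [Group G] (h : IsoE8 G) : HasMS G := by
  obtain ⟨F, _, _, ⟨e⟩⟩ := h
  exact (hasMS_group (by simp) isA2_E8 F).congr e.symm

end Cfsg.Agent.H46.MS
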