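import Cfsg.Agent.H46.MSLin
import Cfsg.Agent.AGraded.HomFinite
import Cfsg.Agent.Classification.RTwo.UThreeThree
import Cfsg.Agent.Phan.Ext
import Cfsg.Agent.S0281
import Cfsg.Agent.LieClassical.FieldTransfer

/-!
# Minimal simple subgroups of the classical groups (helper46)
-/

set_option autoImplicit false

namespace Cfsg.Agent.H46.MS

open Matrix Subgroup Cfsg

/-! ### Linear groups of degree at least three -/

/-- block embedding -/
def slBlk {F : Type*} [Field F] {ι κ : Type*} [Fintype ι] [DecidableEq ι] [Fintype κ] [DecidableEq κ] :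
    Matrix.SpecialLinearGroup ι F →* Matrix.SpecialLinearGroup (ι ⊕ κ) F where
  toFun A := ⟨Matrix.fromBlocks A.1 0 0 1, by
    rw [Matrix.det_fromBlocks_zero₂₁, A.2, Matrix.det_one, mul_one]⟩
  map_one' := Subtype.ext (by
    change Matrix.fromBlocks (1 : Matrix ι ι F) 0 0 1 = 1
    exact Matrix.fromBlocks_one)
  map_mul' A B := Subtype.ext (by
    change Matrix.fromBlocks (A.1 * B.1) 0 0 1 = Matrix.fromBlocks A.1 0 0 1 * Matrix.fromBlocks B.1 0 0 1
    rw [Matrix.fromBlocks_multiply]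
    simp)

theorem slBlk_injective {F : Type*} [Field F] {ι κ : Type*} [Fintype ι] [DecidableEq ι] [Fintype κ]
    [DecidableEq κ] : Function.Injective (slBlk (F := F) (ι := ι) (κ := κ)) := fun A B h => by
  apply Subtype.ext
  have h1 : Matrix.fromBlocks A.1 0 0 (1 : Matrix κ κ F) = Matrix.fromBlocks B.1 0 0 1 := congrArg Subtype.val h
  exact (Matrix.fromBlocks_inj.1 h1).1

/-- change of the index type -/
def slRe {F : Type*} [Field F] {ι κ : Type*} [Fintype ι] [DecidableEq ι] [Fintype κ] [DecidableEq κ]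
    (e : ι ≃ κ) : Matrix.SpecialLinearGroup ι F →* Matrix.SpecialLinearGroup κ F where
  toFun A := ⟨Matrix.reindex e e A.1, by rw [Matrix.det_reindex_self, A.2]⟩
  map_one' := Subtype.ext (by
    change Matrix.reindex e e (1 : Matrix ι ι F) = 1
    simp)
  map_mul' A B := Subtype.ext (by
    change Matrix.reindex e e (A.1 * B.1) = Matrix.reindex e e A.1 * Matrix.reindex e e B.1
    simp [Matrix.reindex_apply, Matrix.submatrix_mul_equiv])

theorem slRe_injective {F : Type*} [Field F] {ι κ : Type*} [Fintype ι] [DecidableEq ι] [Fintype κ]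
    [DecidableEq κ] (e : ι ≃ κ) : Function.Injective (slRe (F := F) e) := fun A B h => by
  apply Subtype.ext
  exact (Matrix.reindex e e).injective (congrArg Subtype.val h)

theorem hasMS_sl (F : Type*) [Field F] [Finite F] {n : ℕ} (hn : 3 ≤ n) :
    HasMS (Matrix.SpecialLinearGroup (Fin n) F) := by
  obtain ⟨k, rfl⟩ := Nat.exists_eq_add_of_le hn
  exact (hasMS_sl_three F).of_injective
    ((slRe (finSumFinEquiv (m := 3) (n := k))).comp slBlk)
    ((slRe_injective _).comp slBlk_injective)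

theorem hasMS_of_psl {G : Type*} [Group G] (h : IsPSL G) : HasMS G := by
  obtain ⟨F, _, _, n, hn, h4, ⟨e⟩⟩ := h
  refine HasMS.congr e.symm ?_
  rcases hn.eq_or_lt with rfl | hn
  · exact hasMS_psl_two (h4 rfl)
  · exact (hasMS_sl F hn).quot_center

/-! ### Symplectic groups -/

/-- `diag(A, A⁻ᵀ)` -/
def dblMat {F : Type*} [Field F] {ι : Type*} [Fintype ι] [DecidableEq ι] (A : Matrix.SpecialLinearGroup ι F) :
    Matrix (ι ⊕ ι) (ι ⊕ ι) F :=
  Matrix.fromBlocks A.1 0 0 (A⁻¹).1ᵀ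

theorem dblMat_mul {F : Type*} [Field F] {ι : Type*} [Fintype ι] [DecidableEq ι]
    (A B : Matrix.SpecialLinearGroup ι F) : dblMat (A * B) = dblMat A * dblMat B := by
  unfold dblMat
  rw [Matrix.fromBlocks_multiply, _root_.mul_inv_rev]
  simp [Matrix.SpecialLinearGroup.coe_mul, Matrix.transpose_mul]

theorem dblMat_one {F : Type*} [Field F] {ι : Type*} [Fintype ι] [DecidableEq ι] :
    dblMat (1 : Matrix.SpecialLinearGroup ι F) = 1 := by
  unfold dblMat
  rw [inv_one, Matrix.SpecialLinearGroup.coe_one, Matrix.transpose_one]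
  exact Matrix.fromBlocks_one

theorem dblMat_inj {F : Type*} [Field F] {ι : Type*} [Fintype ι] [DecidableEq ι]
    {A B : Matrix.SpecialLinearGroup ι F} (h : dblMat A = dblMat B) : A = B :=
  Subtype.ext (Matrix.fromBlocks_inj.1 h).1

theorem mul_inv_val {F : Type*} [Field F] {ι : Type*} [Fintype ι] [DecidableEq ι]
    (A : Matrix.SpecialLinearGroup ι F) : A.1 * (A⁻¹).1 = 1 := by
  have : (A * A⁻¹).1 = (1 : Matrix.SpecialLinearGroup ι F).1 := by rw [mul_inv_cancel]
  exact this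

theorem inv_mul_val {F : Type*} [Field F] {ι : Type*} [Fintype ι] [DecidableEq ι]
    (A : Matrix.SpecialLinearGroup ι F) : (A⁻¹).1 * A.1 = 1 := by
  have : (A⁻¹ * A).1 = (1 : Matrix.SpecialLinearGroup ι F).1 := by rw [inv_mul_cancel]
  exact this

/-- `SL_m → Sp_{2m}` -/
def slSp {F : Type*} [Field F] {ι : Type*} [Fintype ι] [DecidableEq ι] :
    Matrix.SpecialLinearGroup ι F →* Matrix.symplecticGroup ι F where
  toFun A := ⟨dblMat A, by
    rw [SymplecticGroup.mem_iff]
    unfold dblMat Matrix.J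
    rw [Matrix.fromBlocks_multiply, Matrix.fromBlocks_transpose, Matrix.fromBlocks_multiply]
    have h1 : (A⁻¹).1ᵀ * A.1ᵀ = 1 := by rw [← Matrix.transpose_mul, mul_inv_val, Matrix.transpose_one]
    have h2 := mul_inv_val A
    simp [-Matrix.SpecialLinearGroup.coe_inv, h1, h2]⟩
  map_one' := Subtype.ext dblMat_one
  map_mul' A B := Subtype.ext (dblMat_mul A B)

theorem slSp_injective {F : Type*} [Field F] {ι : Type*} [Fintype ι] [DecidableEq ι] :
    Function.Injective (slSp (F := F) (ι := ι)) := fun _ _ h => dblMat_inj (congrArg Subtype.val h)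

theorem hasMS_psp_three {F : Type*} [Field F] [Finite F] {m : ℕ} (hm : 3 ≤ m) : HasMS (PSp m F) :=
  ((hasMS_sl F hm).of_injective slSp slSp_injective).quot_center

/-- `SL₂ → Sp_{2m}`, the scalars blown up -/
def slTwoSp {F : Type*} [Field F] {ι : Type*} [Fintype ι] [DecidableEq ι] :
    Matrix.SpecialLinearGroup (Fin 2) F →* Matrix.symplecticGroup ι F where
  toFun A := ⟨Matrix.fromBlocks (A.1 0 0 • 1) (A.1 0 1 • 1) (A.1 1 0 • 1) (A.1 1 1 • 1), by
    rw [SymplecticGroup.mem_iff]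
    unfold Matrix.J
    rw [Matrix.fromBlocks_multiply, Matrix.fromBlocks_transpose, Matrix.fromBlocks_multiply]
    have hd : A.1 0 0 * A.1 1 1 - A.1 0 1 * A.1 1 0 = 1 := by rw [← Matrix.det_fin_two]; exact A.2
    congr 1 <;> ext i j <;> by_cases hij : i = j <;>
      simp [Matrix.smul_apply, Matrix.one_apply, hij] <;>
      first
        | ring1
        | linear_combination hd
        | linear_combination (-1 : F) * hd⟩
  map_one' := Subtype.ext (by
    change Matrix.fromBlocks ((1 : Matrix (Fin 2) (Fin 2) F) 0 0 • (1 : Matrix ι ι F))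
      ((1 : Matrix (Fin 2) (Fin 2) F) 0 1 • 1) ((1 : Matrix (Fin 2) (Fin 2) F) 1 0 • 1)
      ((1 : Matrix (Fin 2) (Fin 2) F) 1 1 • 1) = 1
    simp [← Matrix.fromBlocks_one])
  map_mul' A B := Subtype.ext (by
    change Matrix.fromBlocks ((A.1 * B.1) 0 0 • (1 : Matrix ι ι F)) ((A.1 * B.1) 0 1 • 1)
      ((A.1 * B.1) 1 0 • 1) ((A.1 * B.1) 1 1 • 1) =
      Matrix.fromBlocks (A.1 0 0 • 1) (A.1 0 1 • 1) (A.1 1 0 • 1) (A.1 1 1 • 1) *
      Matrix.fromBlocks (B.1 0 0 • 1) (B.1 0 1 • 1) (B.1 1 0 • 1) (B.1 1 1 • 1)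
    rw [Matrix.fromBlocks_multiply]
    congr 1 <;> simp [Matrix.mul_apply, Fin.sum_univ_two, add_smul, smul_smul, mul_comm])

theorem hasMS_psp {F : Type*} [Field F] [Fintype F] {m : ℕ} (hm : 1 ≤ m) (hF : 4 ≤ Fintype.card F) :
    HasMS (PSp m F) := by
  have i0 : Fin m := ⟨0, by omega⟩
  refine hasMS_of_sl_two hF ((QuotientGroup.mk' _).comp (slTwoSp (ι := Fin m))) (fun x hx => ?_) ⟨up F, fun h => ?_⟩
  · obtain ⟨r, hr, hx⟩ := Matrix.SpecialLinearGroup.mem_center_iff.1 hx
    rw [MonoidHom.comp_apply, QuotientGroup.mk'_apply, QuotientGroup.eq_one_iff, mem_center_iff]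
    intro g
    apply Subtype.ext
    change g.1 * Matrix.fromBlocks (x.1 0 0 • 1) (x.1 0 1 • 1) (x.1 1 0 • 1) (x.1 1 1 • 1) =
      Matrix.fromBlocks (x.1 0 0 • 1) (x.1 0 1 • 1) (x.1 1 0 • 1) (x.1 1 1 • 1) * g.1
    have h1 : Matrix.fromBlocks (x.1 0 0 • 1) (x.1 0 1 • 1) (x.1 1 0 • 1) (x.1 1 1 • 1) =
        r • (1 : Matrix (Fin m ⊕ Fin m) (Fin m ⊕ Fin m) F) := by
      rw [← hx, ← Matrix.fromBlocks_one, Matrix.fromBlocks_smul]
      simp [Matrix.scalar_apply]
    rw [h1, Matrix.mul_smul, Matrix.smul_mul, Matrix.mul_one, Matrix.one_mul]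
  · rw [MonoidHom.comp_apply, QuotientGroup.mk'_apply, QuotientGroup.eq_one_iff, mem_center_iff] at h
    have h1 := congrArg Subtype.val (h (SymplecticGroup.symJ (Fin m) F))
    change Matrix.J (Fin m) F * Matrix.fromBlocks ((1 : F) • 1) ((1 : F) • 1) ((0 : F) • 1) ((1 : F) • 1) =
      Matrix.fromBlocks ((1 : F) • 1) ((1 : F) • 1) ((0 : F) • 1) ((1 : F) • 1) * Matrix.J (Fin m) F at h1
    unfold Matrix.J at h1
    rw [Matrix.fromBlocks_multiply, Matrix.fromBlocks_multiply] at h1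
    have h2 := (Matrix.fromBlocks_inj.1 h1).1
    have h3 := congrFun (congrFun h2 i0) i0
    simp at h3

/-! ### Orthogonal groups -/

/-- a representation of `SL_m` preserving a quadratic form -/
theorem hasMS_omega {F : Type*} [Field F] [Finite F] {m : ℕ} (hm : 3 ≤ m) {ι : Type} [Fintype ι] [DecidableEq ι]
    (Q : (ι → F) → F) (f : Matrix.SpecialLinearGroup (Fin m) F →* Matrix ι ι F)
    (hf : Function.Injective f) (hQ : ∀ A v, Q (f A *ᵥ v) = Q v) : HasMS (POmega F Q) := by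
  let g : Matrix.SpecialLinearGroup (Fin m) F →* isometryGroup F Q :=
    { toFun := fun A => ⟨f.toHomUnits A, fun v _ => hQ A v⟩
      map_one' := Subtype.ext (map_one _)
      map_mul' := fun A B => Subtype.ext (map_mul _ _ _) }
  have hg : Function.Injective g := by
    intro A B hAB
    apply hf
    exact congrArg (fun x : isometryGroup F Q => ((x : GL ι F) : Matrix ι ι F)) hAB
  exact (HasMS.commutator ((hasMS_sl F hm).of_injective g hg)).quot_center

/-- `diag(A, A⁻ᵀ)` as a homomorphism to matrices -/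
def dbl {F : Type*} [Field F] {ι : Type*} [Fintype ι] [DecidableEq ι] :
    Matrix.SpecialLinearGroup ι F →* Matrix (ι ⊕ ι) (ι ⊕ ι) F where
  toFun := dblMat
  map_one' := dblMat_one
  map_mul' := dblMat_mul

theorem dot_aux {F : Type*} [Field F] {ι : Type*} [Fintype ι] [DecidableEq ι] (A B : Matrix ι ι F) (h : B * A = 1)
    (x y : ι → F) : (A *ᵥ x) ⬝ᵥ (Bᵀ *ᵥ y) = x ⬝ᵥ y := by
  rw [Matrix.mulVec_transpose, dotProduct_comm, ← Matrix.dotProduct_mulVec, Matrix.mulVec_mulVec, h,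
    Matrix.one_mulVec, dotProduct_comm]

theorem dbl_form {F : Type*} [Field F] {m : ℕ} (A : Matrix.SpecialLinearGroup (Fin m) F)
    (v : Fin m ⊕ Fin m → F) :
    ∑ i : Fin m, (dblMat A *ᵥ v) (.inl i) * (dblMat A *ᵥ v) (.inr i) = ∑ i : Fin m, v (.inl i) * v (.inr i) := by
  have h1 : ∀ i, (dblMat A *ᵥ v) (.inl i) = (A.1 *ᵥ fun j => v (.inl j)) i := by
    intro i
    simp [dblMat, Matrix.mulVec, dotProduct, Fintype.sum_sum_type]
  have h2 : ∀ i, (dblMat A *ᵥ v) (.inr i) = ((A⁻¹).1ᵀ *ᵥ fun j => v (.inr j)) i := by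
    intro i
    simp [dblMat, Matrix.mulVec, dotProduct, Fintype.sum_sum_type]
  simp only [h1, h2]
  change (A.1 *ᵥ fun j => v (.inl j)) ⬝ᵥ ((A⁻¹).1ᵀ *ᵥ fun j => v (.inr j)) =
    (fun j => v (.inl j)) ⬝ᵥ fun j => v (.inr j)
  exact dot_aux A.1 (A⁻¹).1 (inv_mul_val A) _ _

/-- adding a trivial block on the left -/
def addL {F : Type*} [Field F] {ι κ : Type*} [Fintype ι] [DecidableEq ι] [Fintype κ] [DecidableEq κ] :
    Matrix ι ι F →* Matrix (κ ⊕ ι) (κ ⊕ ι) F where
  toFun A := Matrix.fromBlocks 1 0 0 A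
  map_one' := Matrix.fromBlocks_one
  map_mul' A B := by rw [Matrix.fromBlocks_multiply]; simp

/-- adding a trivial block on the right -/
def addR {F : Type*} [Field F] {ι κ : Type*} [Fintype ι] [DecidableEq ι] [Fintype κ] [DecidableEq κ] :
    Matrix ι ι F →* Matrix (ι ⊕ κ) (ι ⊕ κ) F where
  toFun A := Matrix.fromBlocks A 0 0 1
  map_one' := Matrix.fromBlocks_one
  map_mul' A B := by rw [Matrix.fromBlocks_multiply]; simp

theorem hasMS_of_pOmegaPlus {G : Type*} [Group G] (h : IsPOmegaPlus G) : HasMS G := by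
  obtain ⟨F, _, _, m, hm, ⟨e⟩⟩ := h
  refine HasMS.congr e.symm (hasMS_omega (m := m) (by omega) _ dbl (fun A B h => dblMat_inj h) fun A v => ?_)
  exact dbl_form A v

theorem hasMS_of_pOmegaOdd {G : Type*} [Group G] (h : IsPOmegaOdd G) : HasMS G := by
  obtain ⟨F, _, _, m, hm, -, ⟨e⟩⟩ := h
  refine HasMS.congr e.symm (hasMS_omega (m := m) (by omega) _ (addL.comp dbl) (fun A B h => ?_) fun A v => ?_)
  · have h' : Matrix.fromBlocks 1 0 0 (dblMat A) = Matrix.fromBlocks 1 0 0 (dblMat B) := h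
    exact dblMat_inj (Matrix.fromBlocks_inj.1 h').2.2.2
  · have h0 : ((Matrix.fromBlocks (1 : Matrix Unit Unit F) 0 0 (dblMat A)) *ᵥ v) (.inl ()) = v (.inl ()) := by
      simp [Matrix.mulVec, dotProduct, Fintype.sum_sum_type]
    have h1 : ∀ i, ((Matrix.fromBlocks (1 : Matrix Unit Unit F) 0 0 (dblMat A)) *ᵥ v) (.inr i) =
        (dblMat A *ᵥ fun j => v (.inr j)) i := by
      intro i
      simp [Matrix.mulVec, dotProduct, Fintype.sum_sum_type]
    change quadFormOdd m F ((Matrix.fromBlocks (1 : Matrix Unit Unit F) 0 0 (dblMat A)) *ᵥ v) = _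
    unfold quadFormOdd
    simp only [h0, h1]
    rw [dbl_form]

theorem hasMS_of_pOmegaMinus {G : Type*} [Group G] (h : IsPOmegaMinus G) : HasMS G := by
  obtain ⟨F, _, _, m, a, b, hm, -, ⟨e⟩⟩ := h
  refine HasMS.congr e.symm (hasMS_omega (m := m - 1) (by omega) _ (addR.comp dbl) (fun A B h => ?_) fun A v => ?_)
  · have h' : Matrix.fromBlocks (dblMat A) 0 0 1 = Matrix.fromBlocks (dblMat B) 0 0 1 := h
    exact dblMat_inj (Matrix.fromBlocks_inj.1 h').1
  · have h0 : ∀ k : Fin 2, ((Matrix.fromBlocks (dblMat A) 0 0 (1 : Matrix (Fin 2) (Fin 2) F)) *ᵥ v) (.inr k) =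
        v (.inr k) := by
      intro k
      simp [Matrix.mulVec, dotProduct, Fintype.sum_sum_type, Matrix.one_apply]
    have h1 : ∀ i, ((Matrix.fromBlocks (dblMat A) 0 0 (1 : Matrix (Fin 2) (Fin 2) F)) *ᵥ v) (.inl i) =
        (dblMat A *ᵥ fun j => v (.inl j)) i := by
      intro i
      simp [Matrix.mulVec, dotProduct, Fintype.sum_sum_type]
    change quadFormMinus (m - 1) F a b ((Matrix.fromBlocks (dblMat A) 0 0 (1 : Matrix (Fin 2) (Fin 2) F)) *ᵥ v) = _
    unfold quadFormMinus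
    simp only [h0, h1]
    rw [dbl_form]

end Cfsg.Agent.H46.MS
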