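import Cfsg.Agent.H46.MSTh
import Cfsg.Agent.H46.MSMath
import Cfsg.Agent.H46.MSSz
import Cfsg.Agent.H46.MSClass
import Cfsg.Agent.H46.MSChev
import Cfsg.Agent.H413.JOneLocal
import Cfsg.Agent.J3Type.Mats
import Cfsg.Agent.S1693
import Cfsg.Agent.S1710
import Cfsg.Agent.S1711
import Cfsg.Agent.CTwoTab.Ru
import Cfsg.Agent.CTwoTab.JTwo

/-!
# Minimal simple subgroups of `J1`, `J2`, `J3`, `J4`, `Ru`, `O'N`, `Ly` (helper46)
-/

set_option autoImplicit false

namespace Cfsg.Agent.H46.MS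

open Subgroup Cfsg Cfsg.Spor

theorem hasMS_of_j1 {G : Type*} [Group G] (h : Spor.IsoJ1 G) : HasMS G := by
  obtain ⟨e⟩ := h
  refine HasMS.congr e.symm (hasMS_of_235 H413.JOneLocal.a H413.JOneLocal.b ?_ H413.JOneLocal.b_cu
    H413.JOneLocal.ab_pow H413.JOneLocal.b_ne)
  rw [← pow_two]
  exact H413.JOneLocal.a_sq

theorem hasMS_of_j2 {G : Type*} [Group G] [Finite G] (h : Spor.IsoJ2 G) : HasMS G := by
  obtain ⟨t, u, Q, v, ρ, D⟩ := Cfsg.Agent.KFacts.J2.Facts.exists_dat_of h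
  obtain ⟨f, U, V, H0, F⟩ := Cfsg.Agent.J2Type.CentU.main D.F
  obtain ⟨e⟩ := Cfsg.Agent.OddHalf.D4.Spor.JTwo.equiv_H0 D F
  exact HasMS.of_subgroup ((hasMS_alt le_rfl).congr e.symm)

/-- the presentation of `A₅` by `(123)`, `(12)(34)`, `(12)(45)` -/
theorem hasMS_of_cfh {G : Type*} [Group G] (c f h : G) (c3 : c * c * c = 1) (f2 : f * f = 1) (h2 : h * h = 1)
    (cf : c * f * (c * f) * (c * f) = 1) (fh : f * h * (f * h) * (f * h) = 1) (ch : c * h * (c * h) = 1)
    (hne : c ≠ 1) : HasMS G := by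
  have hci : c⁻¹ = c * c := (eq_inv_of_mul_eq_one_left (by rw [← c3])).symm
  have hfi := sq_inv f2
  have hhi := sq_inv h2
  have hcc : c⁻¹ * c⁻¹ = c := by
    rw [hci]
    calc c * c * (c * c) = c * c * c * c := by group
      _ = c := by rw [c3, one_mul]
  refine hasMS_of_pair_three c (f * h) (by rw [pow_succ, pow_two, c3]) (by rw [pow_succ, pow_two, ← fh]) ?_ hne
  have h1 : h * c * h = c⁻¹ := by
    have h3 : c * (h * c * h) = 1 := by rw [← ch]; group
    exact eq_inv_of_mul_eq_one_right h3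
  have h2' : c * f * c = f * c⁻¹ * f := by
    have h3 : c * f * c * (f * c * f) = 1 := by rw [← cf]; group
    rw [eq_inv_of_mul_eq_one_left h3]
    simp only [mul_inv_rev, hfi, mul_assoc]
  have h3' : f * c * f = c⁻¹ * f * c⁻¹ := by
    have h3 : c * f * c * (f * c * f) = 1 := by rw [← cf]; group
    rw [eq_inv_of_mul_eq_one_right h3]
    simp only [mul_inv_rev, hfi, mul_assoc]
  have e1 : c * (f * h * c * (f * h)⁻¹) = c * f * c⁻¹ * f := by
    calc c * (f * h * c * (f * h)⁻¹) = c * f * (h * c * h) * f := by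
          rw [mul_inv_rev, hfi, hhi]; group
      _ = _ := by rw [h1]
  rw [e1]
  have e2 : c * f * c⁻¹ * f = f * (c * f * c⁻¹) := by
    calc c * f * c⁻¹ * f = (c * f * c) * (c⁻¹ * c⁻¹) * f := by group
      _ = (f * c⁻¹ * f) * c * f := by rw [h2', hcc]
      _ = f * c⁻¹ * (f * c * f) := by group
      _ = f * c⁻¹ * (c⁻¹ * f * c⁻¹) := by rw [h3']
      _ = f * (c⁻¹ * c⁻¹) * f * c⁻¹ := by group
      _ = f * (c * f * c⁻¹) := by rw [hcc]; group
  rw [pow_two]
  nth_rewrite 1 [e2]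
  calc f * (c * f * c⁻¹) * (c * f * c⁻¹ * f) = f * c * (f * f) * c⁻¹ * f := by group
    _ = f * c * 1 * c⁻¹ * f := by rw [f2]
    _ = f * f := by group
    _ = 1 := f2

theorem hasMS_of_j3 {G : Type*} [Group G] (hna : ¬ IsMulCommutative G) (h : Spor.IsoJ3 G) : HasMS G := by
  obtain ⟨F, _, _, ω, hF, hω, ⟨e⟩⟩ := h
  have H := Cfsg.Agent.J3.Core.good_of_card hF hω
  obtain ⟨Γ⟩ := Cfsg.Agent.J3.Elts.exists_gens hF H
  have A := J3Type.Mats.amal Γ H
  have hne : J3Type.Mats.p Γ 0 ≠ 1 := by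
    intro hc
    apply not_comm_of_iso e hna
    have hf : J3Type.Mats.p Γ 1 = 1 := eq_one_of_two_three A.f2 (by
      have := A.cf
      rw [hc, one_mul] at this
      rw [pow_succ, pow_two, this])
    have hh : J3Type.Mats.p Γ 2 = 1 := eq_one_of_two_three A.h2 (by
      have := A.fh
      rw [hf, one_mul] at this
      rw [pow_succ, pow_two, this])
    have hz : J3Type.Mats.p Γ 9 = 1 := by
      have h1 := A.sy
      rw [A.y_def, hh, one_mul, mul_one, A.s2, one_mul] at h1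
      exact h1.symm
    have hd : J3Type.Mats.p Γ 4 = 1 := by
      have h1 := A.cw
      rw [hc, mul_one, A.w2] at h1
      exact h1.symm
    have hs : J3Type.Mats.p Γ 3 = 1 := by
      have h1 := A.zd
      rw [hz, mul_one, inv_mul_cancel, A.y_def, hh, one_mul, mul_one] at h1
      exact h1.symm
    have hw : J3Type.Mats.p Γ 5 = 1 := eq_one_of_two_three A.w2 (by
      have h1 := A.wu
      rw [A.u_def, hs, hf, one_mul, one_mul, mul_one] at h1
      rw [pow_succ, pow_two, h1])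
    have ht := J3Type.Mats.closure_top Γ H
    rw [hc, hf, hh, hs, hd, hw] at ht
    have hbot : (⊤ : Subgroup (J3 F ω)) = ⊥ := by
      rw [← ht, Subgroup.closure_eq_bot_iff]
      intro x hx
      simpa using hx
    intro x y
    have hx : x = 1 := by
      have := Subgroup.mem_top x
      rw [hbot] at this
      exact this
    have hy : y = 1 := by
      have := Subgroup.mem_top y
      rw [hbot] at this
      exact this
    rw [hx, hy]
  exact HasMS.congr e.symm (hasMS_of_cfh _ _ _ A.c3 A.f2 A.h2 A.cf A.fh A.ch hne)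

theorem hasMS_of_j4 {G : Type*} [Group G] (h : Spor.IsoJ4 G) : HasMS G := by
  obtain ⟨e⟩ := h
  obtain ⟨f⟩ := S1711.result
  exact HasMS.congr e.symm (HasMS.of_subgroup (hasMS_M24.congr f.symm))

theorem hasMS_of_on {G : Type*} [Group G] (h : Spor.IsoON G) : HasMS G := by
  obtain ⟨e⟩ := h
  obtain ⟨N, -, -, ⟨f⟩⟩ := S1693.result
  have h1 : HasMS (Matrix.ProjectiveSpecialLinearGroup (Fin 3) (ZMod 7)) :=
    (hasMS_sl_three (ZMod 7)).quot_center
  exact HasMS.congr e.symm (HasMS.of_subgroup (HasMS.of_subgroup (h1.congr f.symm)))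

theorem hasMS_of_ly {G : Type*} [Group G] (h : Spor.IsoLy G) : HasMS G := by
  obtain ⟨e⟩ := h
  obtain ⟨K, _, _, -, ⟨f⟩⟩ := S1710.result
  exact HasMS.congr e.symm (HasMS.of_subgroup ((hasMS_group (by simp) isA2_G2 K).congr f.symm))

theorem hasMS_of_ru {G : Type*} [Group G] (h : Spor.IsoRu G) : HasMS G := by
  obtain ⟨C, hsz, -⟩ := CTwoTab.Ru.exists_core_sz h
  exact HasMS.of_subgroup (hasMS_of_suzuki hsz)

end Cfsg.Agent.H46.MS
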