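import Cfsg.Agent.H46.MinSub
import Cfsg.Agent.S1000
import Cfsg.Agent.TwoFusion.SLTwoFacts
import Cfsg.Agent.S0249
import Cfsg.Agent.S0255
import Cfsg.Agent.SmallSimple.S1000.PSLFacts
import Cfsg.Agent.Classification.ThreePrimes

/-!
# Minimal simple subgroups of the linear groups (helper46)

`hasMS_sl_three`: every `SL₃(F)`, `F` finite, has a minimal simple subgroup.
`hasMS_of_sl_two`: a non-trivial image of `SL₂(F)`, `4 ≤ |F|`, in which the centre dies.
`so`: `SL₂(F) → SO₃(F)` for the standard form.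
-/

set_option autoImplicit false

namespace Cfsg.Agent.H46.MS

open Matrix Subgroup Cfsg

theorem hasMS_of_sl_two {F : Type*} [Field F] [Fintype F] (hF : 4 ≤ Fintype.card F) {G : Type*} [Group G]
    (f : SpecialLinearGroup (Fin 2) F →* G) (hc : ∀ x ∈ center (SpecialLinearGroup (Fin 2) F), f x = 1)
    (hne : ∃ x, f x ≠ 1) : HasMS G := by
  have hs := TwoFusion.SLTwoFacts.isSimpleGroup_psl (F := F) hF
  let g : ProjectiveSpecialLinearGroup (Fin 2) F →* G := QuotientGroup.lift _ f hc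
  have hker : g.ker = ⊥ := by
    rcases hs.eq_bot_or_eq_top_of_normal g.ker inferInstance with h | h
    · exact h
    · obtain ⟨x, hx⟩ := hne
      have h1 : (QuotientGroup.mk x : ProjectiveSpecialLinearGroup (Fin 2) F) ∈ g.ker := by rw [h]; trivial
      exact absurd h1 hx
  exact (hasMS_psl_two hF).of_injective g ((MonoidHom.ker_eq_bot_iff g).1 hker)

/-- the elementary matrix -/
def up (F : Type*) [Field F] : Matrix.SpecialLinearGroup (Fin 2) F := ⟨!![1, 1; 0, 1], by simp [det_fin_two]⟩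

/-- characteristic 2: `SL₂(F)` itself -/
theorem hasMS_sl_two_even {F : Type*} [Field F] [Fintype F] (hF : 4 ≤ Fintype.card F) (h2 : (2 : F) = 0) :
    HasMS (SpecialLinearGroup (Fin 2) F) := by
  refine hasMS_of_sl_two hF (MonoidHom.id _) (fun x hx => ?_) ?_
  · obtain ⟨r, hr, hx⟩ := Matrix.SpecialLinearGroup.mem_center_iff.1 hx
    have hchar : CharP F 2 := CharTwo.of_one_ne_zero_of_two_eq_zero one_ne_zero h2
    have hr1 : r = 1 := by
      rw [Fintype.card_fin] at hr
      have : (r - 1) ^ 2 = 0 := by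
        have : (r - 1) ^ 2 = r ^ 2 - 1 + 2 * (1 - r) := by ring
        rw [this, hr, h2]; ring
      exact sub_eq_zero.1 (pow_eq_zero_iff (two_ne_zero) |>.1 this)
    apply Subtype.ext
    change (x : Matrix (Fin 2) (Fin 2) F) = 1
    rw [← hx, hr1, Matrix.scalar_apply]
    simp
  · refine ⟨up F, fun h => ?_⟩
    have h1 : (1 : F) = 0 :=
      congrArg (fun A : Matrix.SpecialLinearGroup (Fin 2) F => (A : Matrix (Fin 2) (Fin 2) F) 0 1) h
    exact one_ne_zero h1

/-! ### The symmetric square -/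

section Sym

variable {F : Type*} [Field F]

/-- the action on the symmetric square -/
def symMat (A : Matrix (Fin 2) (Fin 2) F) : Matrix (Fin 3) (Fin 3) F :=
  !![A 0 0 ^ 2, A 0 0 * A 0 1, A 0 1 ^ 2;
    2 * A 0 0 * A 1 0, A 0 0 * A 1 1 + A 0 1 * A 1 0, 2 * A 0 1 * A 1 1;
    A 1 0 ^ 2, A 1 0 * A 1 1, A 1 1 ^ 2]

theorem symMat_mul (A B : Matrix (Fin 2) (Fin 2) F) : symMat (A * B) = symMat A * symMat B := by
  ext i j
  fin_cases i <;> fin_cases j <;>
    simp [symMat, Matrix.mul_apply, Fin.sum_univ_two, Fin.sum_univ_three] <;> ring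

theorem symMat_one : symMat (1 : Matrix (Fin 2) (Fin 2) F) = 1 := by
  ext i j
  fin_cases i <;> fin_cases j <;> simp [symMat]

theorem det_symMat (A : Matrix (Fin 2) (Fin 2) F) : (symMat A).det = A.det ^ 3 := by
  rw [det_fin_three, det_fin_two]
  simp [symMat]
  ring

/-- the invariant form -/
def gramJ : Matrix (Fin 3) (Fin 3) F := !![0, 0, 2; 0, -1, 0; 2, 0, 0]

theorem symMat_gram (A : Matrix (Fin 2) (Fin 2) F) :
    (symMat A)ᵀ * gramJ * symMat A = A.det ^ 2 • gramJ := by
  ext i j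
  fin_cases i <;> fin_cases j <;>
    simp [symMat, gramJ, Matrix.mul_apply, Fin.sum_univ_three, det_fin_two] <;> ring

/-- an orthonormal basis -/
def basP (a b : F) : Matrix (Fin 3) (Fin 3) F := !![1 / 2, a / 2, b / 2; 0, b, -a; 1 / 2, -a / 2, -b / 2]

theorem basP_gram (h2 : (2 : F) ≠ 0) {a b : F} (hab : a ^ 2 + b ^ 2 = -1) :
    (basP a b)ᵀ * gramJ * basP a b = 1 := by
  ext i j
  fin_cases i <;> fin_cases j <;>
    simp [basP, gramJ, Matrix.mul_apply, Fin.sum_univ_three] <;> field_simp <;>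
    first
      | ring1
      | linear_combination hab
      | linear_combination (-1 : F) * hab
      | linear_combination (-2 : F) * hab

/-- the dual basis -/
def basQ (a b : F) : Matrix (Fin 3) (Fin 3) F := (basP a b)ᵀ * gramJ

theorem basQ_mul (h2 : (2 : F) ≠ 0) {a b : F} (hab : a ^ 2 + b ^ 2 = -1) : basQ a b * basP a b = 1 :=
  basP_gram h2 hab

theorem basP_mul (h2 : (2 : F) ≠ 0) {a b : F} (hab : a ^ 2 + b ^ 2 = -1) : basP a b * basQ a b = 1 :=
  mul_eq_one_comm.1 (basQ_mul h2 hab)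

theorem gramJ_transpose : (gramJ : Matrix (Fin 3) (Fin 3) F)ᵀ = gramJ := by
  ext i j
  fin_cases i <;> fin_cases j <;> simp [gramJ]

/-- the orthogonal matrix of an element of `SL₂` -/
def soMat (a b : F) (A : Matrix (Fin 2) (Fin 2) F) : Matrix (Fin 3) (Fin 3) F :=
  basQ a b * symMat A * basP a b

theorem soMat_mul (h2 : (2 : F) ≠ 0) {a b : F} (hab : a ^ 2 + b ^ 2 = -1) (A B : Matrix (Fin 2) (Fin 2) F) :
    soMat a b (A * B) = soMat a b A * soMat a b B := by
  unfold soMat
  rw [symMat_mul]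
  calc basQ a b * (symMat A * symMat B) * basP a b
      = basQ a b * symMat A * (1 : Matrix _ _ F) * symMat B * basP a b := by
        rw [Matrix.mul_one]; simp only [Matrix.mul_assoc]
    _ = basQ a b * symMat A * (basP a b * basQ a b) * symMat B * basP a b := by rw [basP_mul h2 hab]
    _ = _ := by simp only [Matrix.mul_assoc]

theorem det_soMat (h2 : (2 : F) ≠ 0) {a b : F} (hab : a ^ 2 + b ^ 2 = -1) (A : Matrix (Fin 2) (Fin 2) F) :
    (soMat a b A).det = A.det ^ 3 := by
  unfold soMat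
  rw [det_mul, det_mul, det_symMat]
  have := congrArg det (basQ_mul h2 hab)
  rw [det_mul, det_one] at this
  linear_combination A.det ^ 3 * this

theorem soMat_transpose (h2 : (2 : F) ≠ 0) {a b : F} (hab : a ^ 2 + b ^ 2 = -1) {A : Matrix (Fin 2) (Fin 2) F}
    (hA : A.det = 1) : (soMat a b A)ᵀ * soMat a b A = 1 := by
  have h1 : (basQ a b)ᵀ * basQ a b = gramJ := by
    have e : (basQ a b)ᵀ = gramJ * basP a b := by
      unfold basQ
      rw [transpose_mul, transpose_transpose, gramJ_transpose]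
    rw [e, Matrix.mul_assoc, basP_mul h2 hab, Matrix.mul_one]
  have h3 := symMat_gram A
  rw [hA, one_pow, one_smul] at h3
  unfold soMat
  rw [transpose_mul, transpose_mul]
  calc (basP a b)ᵀ * ((symMat A)ᵀ * (basQ a b)ᵀ) * (basQ a b * symMat A * basP a b)
      = (basP a b)ᵀ * ((symMat A)ᵀ * ((basQ a b)ᵀ * basQ a b) * symMat A) * basP a b := by
        simp only [Matrix.mul_assoc]
    _ = (basP a b)ᵀ * gramJ * basP a b := by rw [h1, h3]
    _ = 1 := basP_gram h2 hab

/-- `SL₂(F) → SO₃(F) ≤ SL₃(F)` -/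
def so (h2 : (2 : F) ≠ 0) {a b : F} (hab : a ^ 2 + b ^ 2 = -1) :
    Matrix.SpecialLinearGroup (Fin 2) F →* Matrix.SpecialLinearGroup (Fin 3) F where
  toFun A := ⟨soMat a b A.1, by rw [det_soMat h2 hab, A.2, one_pow]⟩
  map_one' := Subtype.ext (by
    change soMat a b (1 : Matrix (Fin 2) (Fin 2) F) = 1
    unfold soMat
    rw [symMat_one, Matrix.mul_one, basQ_mul h2 hab])
  map_mul' A B := Subtype.ext (soMat_mul h2 hab A.1 B.1)

theorem so_transpose (h2 : (2 : F) ≠ 0) {a b : F} (hab : a ^ 2 + b ^ 2 = -1)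
    (A : Matrix.SpecialLinearGroup (Fin 2) F) : (so h2 hab A).1ᵀ * (so h2 hab A).1 = 1 :=
  soMat_transpose h2 hab A.2

theorem symMat_eq_one_of_center {A : Matrix.SpecialLinearGroup (Fin 2) F}
    (hA : A ∈ center (Matrix.SpecialLinearGroup (Fin 2) F)) : symMat A.1 = 1 := by
  obtain ⟨r, hr, hx⟩ := Matrix.SpecialLinearGroup.mem_center_iff.1 hA
  rw [Fintype.card_fin] at hr
  rw [← hx]
  ext i j
  fin_cases i <;> fin_cases j <;> simp [symMat, Matrix.scalar_apply, hr, ← sq]

theorem symMat_up : symMat (up F).1 ≠ 1 := by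
  intro h
  have := congrFun (congrFun h 0) 1
  simp [symMat, up] at this

theorem so_eq_one_iff (h2 : (2 : F) ≠ 0) {a b : F} (hab : a ^ 2 + b ^ 2 = -1)
    (A : Matrix.SpecialLinearGroup (Fin 2) F) : so h2 hab A = 1 ↔ symMat A.1 = 1 := by
  constructor
  · intro h
    have h1 : soMat a b A.1 = 1 := congrArg Subtype.val h
    calc symMat A.1 = (basP a b * basQ a b) * symMat A.1 * (basP a b * basQ a b) := by
          rw [basP_mul h2 hab, Matrix.one_mul, Matrix.mul_one]
      _ = basP a b * soMat a b A.1 * basQ a b := by unfold soMat; simp only [Matrix.mul_assoc]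
      _ = 1 := by rw [h1, Matrix.mul_one, basP_mul h2 hab]
  · intro h
    apply Subtype.ext
    change basQ a b * symMat A.1 * basP a b = 1
    rw [h, Matrix.mul_one, basQ_mul h2 hab]

end Sym

theorem exists_sq_add_sq (F : Type*) [Field F] [Finite F] : ∃ a b : F, a ^ 2 + b ^ 2 = -1 := by
  have := Fintype.ofFinite F
  obtain ⟨p, hchar⟩ := CharP.exists F
  have hp : Fact p.Prime := ⟨CharP.char_is_prime F p⟩
  obtain ⟨a, b, h⟩ := ZMod.sq_add_sq p (-1)
  have f : ZMod p →+* F := ZMod.castHom (dvd_refl p) F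
  exact ⟨f a, f b, by rw [← map_pow, ← map_pow, ← map_add, h, map_neg, map_one]⟩

/-- `SO₃` of the standard form: transport along a homomorphism killing nothing but the kernel of `so` -/
theorem hasMS_of_so {F : Type*} [Field F] [Fintype F] (hF : 4 ≤ Fintype.card F) (h2 : (2 : F) ≠ 0)
    {a b : F} (hab : a ^ 2 + b ^ 2 = -1) {G : Type*} [Group G]
    (f : Matrix.SpecialLinearGroup (Fin 2) F →* G)
    (hf : ∀ A, f A = 1 ↔ so h2 hab A = 1) : HasMS G := by
  refine hasMS_of_sl_two hF f (fun x hx => ?_) ⟨up F, fun h => ?_⟩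
  · rw [hf, so_eq_one_iff]
    exact symMat_eq_one_of_center hx
  · rw [hf, so_eq_one_iff] at h
    exact symMat_up h

/-! ### `SL₃` -/

theorem center_sl_three_eq_bot {F : Type*} [Field F] (h : ∀ r : F, r ^ 3 = 1 → r = 1) :
    center (Matrix.SpecialLinearGroup (Fin 3) F) = ⊥ := by
  rw [eq_bot_iff]
  intro x hx
  obtain ⟨r, hr, hx⟩ := Matrix.SpecialLinearGroup.mem_center_iff.1 hx
  rw [Fintype.card_fin] at hr
  rw [mem_bot]
  apply Subtype.ext
  rw [← hx, h r hr, Matrix.scalar_apply]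
  simp

theorem hasMS_of_center_eq_bot {G : Type*} [Group G] (h : center G = ⊥) (hq : HasMS (G ⧸ center G)) : HasMS G :=
  hq.congr ((QuotientGroup.quotientMulEquivOfEq h).trans QuotientGroup.quotientBot)

theorem hasMS_sl_three_map {K L : Type*} [Field K] [Field L] (f : K →+* L)
    (h : HasMS (Matrix.SpecialLinearGroup (Fin 3) K)) : HasMS (Matrix.SpecialLinearGroup (Fin 3) L) :=
  h.of_injective (Matrix.SpecialLinearGroup.map f) fun A B hAB => by
    apply Subtype.ext
    ext i j
    exact f.injective (congrFun (congrFun (congrArg Subtype.val hAB) i) j)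

theorem hasMS_sl_three_two : HasMS (Matrix.SpecialLinearGroup (Fin 3) (ZMod 2)) := by
  have : Fact (Nat.Prime 7) := ⟨by norm_num⟩
  obtain ⟨e⟩ := S0255.result (F := ZMod 7) (K := ZMod 2) (ZMod.card 7) (ZMod.card 2)
  have h7 : HasMS (ProjectiveSpecialLinearGroup (Fin 2) (ZMod 7)) := hasMS_psl_two (by rw [ZMod.card]; norm_num)
  exact hasMS_of_center_eq_bot (center_sl_three_eq_bot (by decide)) (h7.congr e)

theorem isMinimalSimple_psl_three_three :
    IsMinimalSimple (ProjectiveSpecialLinearGroup (Fin 3) (ZMod 3)) := by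
  have hc3 : Fintype.card (ZMod 3) = 3 := ZMod.card 3
  have hcard := SmallSimple.PSLFacts.card_psl_three_three hc3
  have hfin : Finite (ProjectiveSpecialLinearGroup (Fin 3) (ZMod 3)) :=
    Nat.finite_of_card_ne_zero (by rw [hcard]; norm_num)
  have hs := S0249.result (F := ZMod 3) 3 le_rfl
  refine ⟨hs, ?_, ?_⟩
  · intro hcomm
    have hsol : Group.IsSolvable (ProjectiveSpecialLinearGroup (Fin 3) (ZMod 3)) :=
      Group.isSolvable_of_comm fun a b => hcomm.is_comm.comm a b
    have hp := (IsSimpleGroup.comm_iff_isSolvable (G := ProjectiveSpecialLinearGroup (Fin 3) (ZMod 3))).2 hsol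
    have : IsCyclic (ProjectiveSpecialLinearGroup (Fin 3) (ZMod 3)) := by
      let _ : CommGroup (ProjectiveSpecialLinearGroup (Fin 3) (ZMod 3)) := { (inferInstance : Group _) with mul_comm := hp }
      infer_instance
    have hpr : (Nat.card (ProjectiveSpecialLinearGroup (Fin 3) (ZMod 3))).Prime := by
      let _ : CommGroup (ProjectiveSpecialLinearGroup (Fin 3) (ZMod 3)) := { (inferInstance : Group _) with mul_comm := hp }
      exact IsSimpleGroup.prime_card
    rw [hcard] at hpr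
    exact absurd hpr (by norm_num)
  · intro H hH
    by_contra hns
    obtain ⟨K, N, hN, hQ⟩ := Classification.ThreePrimes.exists_section (G := ↥H) hns
    have hQs := hQ.1
    have hdvd1 : Nat.card (↥K ⧸ N) ∣ Nat.card ↥H :=
      (N.card_quotient_dvd_card).trans K.card_subgroup_dvd_card
    have hdvdH := H.card_subgroup_dvd_card
    rw [hcard] at hdvdH
    have hlt : Nat.card ↥H < 5616 := by
      rw [← hcard]
      exact lt_of_le_of_ne (Nat.le_of_dvd Nat.card_pos H.card_subgroup_dvd_card)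
        fun h => hH (H.eq_top_of_card_eq h)
    have hdvd : Nat.card (↥K ⧸ N) ∣ 13 * (3 ^ 3 * 2 ^ 4) := hdvd1.trans hdvdH
    have hle : Nat.card (↥K ⧸ N) < 5616 := lt_of_le_of_lt (Nat.le_of_dvd Nat.card_pos hdvd1) hlt
    have hform : ∃ p a b : ℕ, p.Prime ∧ Nat.card (↥K ⧸ N) = p * 3 ^ a * 2 ^ b := by
      obtain ⟨u, v, hu, hv, huv⟩ := (Nat.dvd_mul).1 hdvd
      obtain ⟨v1, v2, hv1, hv2, hv12⟩ := (Nat.dvd_mul).1 hv
      obtain ⟨a, ha, rfl⟩ := (Nat.dvd_prime_pow Nat.prime_three).1 hv1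
      obtain ⟨b, hb, rfl⟩ := (Nat.dvd_prime_pow Nat.prime_two).1 hv2
      rcases (Nat.dvd_prime (by norm_num : Nat.Prime 13)).1 hu with rfl | rfl
      · rcases Nat.eq_zero_or_pos a with rfl | ha0
        · rcases Nat.eq_zero_or_pos b with rfl | hb0
          · exfalso
            have h1 : Nat.card (↥K ⧸ N) = 1 := by rw [← huv, ← hv12]; norm_num
            have := hQs.toNontrivial
            exact absurd h1 (Finite.one_lt_card).ne'
          · obtain ⟨c, rfl⟩ : ∃ c, b = c + 1 := ⟨b - 1, by omega⟩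
            exact ⟨2, 0, c, Nat.prime_two, by rw [← huv, ← hv12]; ring⟩
        · obtain ⟨c, rfl⟩ : ∃ c, a = c + 1 := ⟨a - 1, by omega⟩
          exact ⟨3, c, b, Nat.prime_three, by rw [← huv, ← hv12]; ring⟩
      · exact ⟨13, a, b, by norm_num, by rw [← huv, ← hv12]; ring⟩
    obtain ⟨p, a, b, hp, hpab⟩ := hform
    have key := S1000.result (G := ↥K ⧸ N) hQ.2.1 p a b hp hpab
    have hd5616 : Nat.card (↥K ⧸ N) ∣ 5616 := hdvd
    rcases key with ⟨⟨e⟩⟩ | ⟨⟨e⟩⟩ | ⟨F, _, _, hF, ⟨e⟩⟩ | ⟨F, _, _, hF, ⟨e⟩⟩ | ⟨F, _, _, hF, ⟨e⟩⟩ | ⟨F, _, _, hF, ⟨e⟩⟩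
    · rw [Nat.card_congr e.toEquiv, SmallSimple.PSLFacts.card_alt_five] at hd5616
      exact absurd hd5616 (by norm_num)
    · rw [Nat.card_congr e.toEquiv, SmallSimple.PSLFacts.card_alt_six] at hd5616
      exact absurd hd5616 (by norm_num)
    · rw [Nat.card_congr e.toEquiv, SmallSimple.PSLFacts.card_psp_two_three hF] at hd5616
      exact absurd hd5616 (by norm_num)
    · rcases hF with hF | hF | hF
      · rw [Nat.card_congr e.toEquiv, SmallSimple.PSLFacts.card_psl_two_seven hF] at hd5616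
        exact absurd hd5616 (by norm_num)
      · rw [Nat.card_congr e.toEquiv, SmallSimple.PSLFacts.card_psl_two_eight hF] at hd5616
        exact absurd hd5616 (by norm_num)
      · rw [Nat.card_congr e.toEquiv, SmallSimple.PSLFacts.card_psl_two_seventeen hF] at hd5616
        exact absurd hd5616 (by norm_num)
    · rw [Nat.card_congr e.toEquiv, SmallSimple.PSLFacts.card_psu_three_three hF] at hd5616
      exact absurd hd5616 (by norm_num)
    · rw [Nat.card_congr e.toEquiv, SmallSimple.PSLFacts.card_psl_three_three hF] at hle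
      exact absurd hle (lt_irrefl _)

theorem hasMS_sl_three_three : HasMS (Matrix.SpecialLinearGroup (Fin 3) (ZMod 3)) :=
  hasMS_of_center_eq_bot (center_sl_three_eq_bot (by decide))
    (IsMinimalSimple.hasMS isMinimalSimple_psl_three_three)

theorem hasMS_sl_three (F : Type*) [Field F] [Finite F] : HasMS (Matrix.SpecialLinearGroup (Fin 3) F) := by
  have := Fintype.ofFinite F
  obtain ⟨p, hchar⟩ := CharP.exists F
  have hp : Fact p.Prime := ⟨CharP.char_is_prime F p⟩
  apply hasMS_sl_three_map (ZMod.castHom (dvd_refl p) F)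
  by_cases hp2 : p = 2
  · subst hp2; exact hasMS_sl_three_two
  by_cases hp3 : p = 3
  · subst hp3; exact hasMS_sl_three_three
  have h5p : 4 ≤ p := by
    have := hp.out.two_le
    omega
  have h2 : (2 : ZMod p) ≠ 0 := by
    intro h
    have : (p : ℕ) ∣ 2 := (ZMod.natCast_eq_zero_iff 2 p).1 (by exact_mod_cast h)
    exact hp2 ((Nat.prime_dvd_prime_iff_eq hp.out Nat.prime_two).1 this)
  obtain ⟨a, b, hab⟩ := exists_sq_add_sq (ZMod p)
  exact hasMS_of_so (by rw [ZMod.card]; exact h5p) h2 hab (so h2 hab) fun A => Iff.rfl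

end Cfsg.Agent.H46.MS
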