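import Cfsg.Agent.H46.MSLibR
import Cfsg.Agent.H46.MSPair
import Cfsg.Agent.H46.MSTits

/-!
# Minimal simple subgroups of the known simple groups (helper46)

`hasMS_of_known`: every non-abelian group on the list has a minimal simple subgroup.
-/

set_option autoImplicit false

namespace Cfsg.Agent.H46.MS

open Cfsg

theorem comm_of_primeCyclic {G : Type*} [Group G] (h : IsPrimeCyclic G) : IsMulCommutative G := by
  have : IsCyclic G := by
    have : Fact (Nat.Prime (Nat.card G)) := ⟨h⟩
    exact isCyclic_of_prime_card rfl
  exact ⟨⟨fun a b => (IsCyclic.commGroup (α := G)).mul_comm a b⟩⟩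

/-- Every non-abelian finite simple group on the list has a minimal simple subgroup. -/
theorem hasMS_of_known {G : Type*} [Group G] [Finite G] (hna : ¬ IsMulCommutative G)
    (h : IsKnownSimple' G) : HasMS G := by
  rcases h with h | h | h | h | h | h | h | h | h | h
  · exact absurd (comm_of_primeCyclic h) hna
  · exact hasMS_of_alt h
  · exact hasMS_of_psl h
  · exact hasMS_of_psp h
  · exact hasMS_of_psu h
  · exact hasMS_of_pOmegaOdd h
  · exact hasMS_of_pOmegaPlus h
  · exact hasMS_of_pOmegaMinus h
  · rcases h with h | h | h | h | h | h | h | h | h | h | h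
    · exact hasMS_of_chevG2 h
    · exact hasMS_of_F4 h
    · exact hasMS_of_E6 h
    · exact hasMS_of_E7 h
    · exact hasMS_of_E8 h
    · exact hasMS_of_iso2E6 h
    · exact hasMS_of_iso3D4 h
    · exact hasMS_of_suzuki h
    · exact hasMS_of_ree h
    · exact hasMS_of_iso2F4 h
    · exact hasMS_of_tits h
  · rcases h with h | h | h | h | h | h | h | h | h | h | h | h | h | h | h | h | h | h | h | h | h | h | h | h | h | h
    · exact hasMS_of_m11 h
    · exact hasMS_of_m12 h
    · exact hasMS_of_m22 h
    · exact hasMS_of_m23 h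
    · exact hasMS_of_m24 h
    · exact hasMS_of_j1 h
    · exact hasMS_of_j2 h
    · exact hasMS_of_j3 hna h
    · exact hasMS_of_j4 h
    · exact hasMS_of_co1 h
    · exact hasMS_of_co2 h
    · exact hasMS_of_co3 h
    · exact hasMS_of_mcl h
    · exact hasMS_of_hs h
    · exact hasMS_of_suz hna h
    · exact hasMS_of_he hna h
    · exact hasMS_of_ru h
    · exact hasMS_of_on h
    · exact hasMS_of_ly h
    · exact hasMS_of_fi22 hna h
    · exact hasMS_of_fi23 hna h
    · exact hasMS_of_fi24 hna h
    · exact hasMS_of_hn hna h
    · exact hasMS_of_th hna h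
    · exact hasMS_of_b hna h
    · exact hasMS_of_m hna h

end Cfsg.Agent.H46.MS
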