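import Cfsg.Agent.H46.MSClass

/-!
# Minimal simple subgroups of `PSp₄(3)` and of the unitary groups (helper46)
-/

set_option autoImplicit false

namespace Cfsg.Agent.H46.MS

open Matrix Subgroup Cfsg

/-! ### `PSp₄(3)` -/

/-- a matrix from a function of numbers -/
def spM (f : Fin 4 → Fin 4 → ZMod 3) : Matrix (Fin 2 ⊕ Fin 2) (Fin 2 ⊕ Fin 2) (ZMod 3) :=
  fun i j => f (finSumFinEquiv i) (finSumFinEquiv j)

def spX : Matrix (Fin 2 ⊕ Fin 2) (Fin 2 ⊕ Fin 2) (ZMod 3) :=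
  spM !![2, 0, 1, 0; 0, 2, 0, 2; 2, 0, 0, 0; 0, 1, 0, 0]
def spY : Matrix (Fin 2 ⊕ Fin 2) (Fin 2 ⊕ Fin 2) (ZMod 3) :=
  spM !![0, 0, 0, 1; 0, 0, 1, 0; 0, 2, 2, 0; 2, 0, 0, 2]
def spZ : Matrix (Fin 2 ⊕ Fin 2) (Fin 2 ⊕ Fin 2) (ZMod 3) :=
  spM !![0, 0, 0, 2; 0, 0, 2, 0; 0, 1, 2, 0; 1, 0, 0, 2]

theorem spX_mem : spX ∈ Matrix.symplecticGroup (Fin 2) (ZMod 3) := by
  rw [SymplecticGroup.mem_iff]; decide +kernel
theorem spY_mem : spY ∈ Matrix.symplecticGroup (Fin 2) (ZMod 3) := by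
  rw [SymplecticGroup.mem_iff]; decide +kernel
theorem spZ_mem : spZ ∈ Matrix.symplecticGroup (Fin 2) (ZMod 3) := by
  rw [SymplecticGroup.mem_iff]; decide +kernel

theorem neg_one_central {x : Matrix.symplecticGroup (Fin 2) (ZMod 3)} (h : x.1 = -1) :
    (QuotientGroup.mk x : PSp 2 (ZMod 3)) = 1 := by
  rw [QuotientGroup.eq_one_iff, mem_center_iff]
  intro g
  apply Subtype.ext
  change g.1 * x.1 = x.1 * g.1
  rw [h]
  simp

theorem psp_rel {x y : Matrix.symplecticGroup (Fin 2) (ZMod 3)}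
    (h : (x.1 * y.1) * (x.1 * y.1) = -1) :
    ((QuotientGroup.mk x : PSp 2 (ZMod 3)) * QuotientGroup.mk y) ^ 2 = 1 := by
  rw [← QuotientGroup.mk_mul, ← QuotientGroup.mk_pow]
  apply neg_one_central
  rw [sq]
  exact h

theorem psp_cube {x : Matrix.symplecticGroup (Fin 2) (ZMod 3)}
    (h : x.1 * x.1 * x.1 = 1) :
    (QuotientGroup.mk x : PSp 2 (ZMod 3)) ^ 3 = 1 := by
  rw [← QuotientGroup.mk_pow]
  have : x ^ 3 = 1 := by
    apply Subtype.ext
    rw [pow_succ, sq]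
    exact h
  rw [this]
  rfl

theorem hasMS_psp_two_three : HasMS (PSp 2 (ZMod 3)) := by
  refine hasMS_of_triple (QuotientGroup.mk ⟨spX, spX_mem⟩ : PSp 2 (ZMod 3)) (QuotientGroup.mk ⟨spY, spY_mem⟩)
    (QuotientGroup.mk ⟨spZ, spZ_mem⟩) (psp_cube (by decide +kernel)) (psp_cube (by decide +kernel))
    (psp_cube (by decide +kernel)) (psp_rel (by decide +kernel)) (psp_rel (by decide +kernel))
    (psp_rel (by decide +kernel)) ?_
  intro h
  rw [QuotientGroup.eq_one_iff, mem_center_iff] at h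
  have h1 := congrArg Subtype.val (h ⟨spY, spY_mem⟩)
  have h2 : spY * spX ≠ spX * spY := by decide +kernel
  exact h2 h1

theorem hasMS_of_psp {G : Type*} [Group G] (h : IsPSp G) : HasMS G := by
  obtain ⟨F, _, _, m, hm, h3, ⟨e⟩⟩ := h
  refine HasMS.congr e.symm ?_
  rcases hm.eq_or_lt with rfl | hm3
  · rcases (h3 rfl).eq_or_lt with h3' | h4
    · obtain ⟨σ⟩ : Nonempty (ZMod 3 ≃+* F) :=
        ⟨FiniteField.ringEquivOfCardEq (by rw [ZMod.card]; exact h3')⟩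
      exact hasMS_psp_two_three.congr (LieClassical.FieldTransfer.pspCongr 2 σ)
    · exact hasMS_psp (by norm_num) h4
  · exact hasMS_psp_three hm3

/-! ### Unitary groups -/

open Cfsg.Agent.LieClassical.GUOrder in
/-- a matrix over the subfield with orthonormal columns -/
theorem mem_su_of_orth {F : Type*} [Field F] [Fintype F] {q n : ℕ} (hF : Fintype.card F = q ^ 2)
    {A : Matrix.SpecialLinearGroup (Fin n) F} (hA : A.1ᵀ * A.1 = 1) (hfix : ∀ i j, (A.1 i j) ^ q = A.1 i j) :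
    A ∈ SU n F q := by
  refine (mul_map_eq_one_iff hF A.1).2 ?_
  have h1 : A.1.map (frob hF) = A.1 := by
    ext i j
    rw [Matrix.map_apply, frob_apply, hfix]
  rw [h1, hA]

/-- permutation matrices -/
def altHom (F : Type*) [Field F] (n : ℕ) : alternatingGroup (Fin n) →* Matrix.SpecialLinearGroup (Fin n) F where
  toFun σ := ⟨(σ⁻¹).1.permMatrix F, by
    rw [Matrix.det_permutation]
    have := (Equiv.Perm.mem_alternatingGroup).1 (σ⁻¹).2
    rw [this]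
    simp⟩
  map_one' := Subtype.ext (by
    change ((1 : alternatingGroup (Fin n))⁻¹).1.permMatrix F = 1
    simp)
  map_mul' σ τ := Subtype.ext (by
    change ((σ * τ)⁻¹).1.permMatrix F = (σ⁻¹).1.permMatrix F * (τ⁻¹).1.permMatrix F
    rw [_root_.mul_inv_rev, ← Matrix.permMatrix_mul]
    rfl)

theorem hasMS_su_five {F : Type*} [Field F] [Fintype F] {q n : ℕ} (hF : Fintype.card F = q ^ 2) (hn : 5 ≤ n) :
    HasMS (SU n F q) := by
  have hmem : ∀ σ : alternatingGroup (Fin n), altHom F n σ ∈ SU n F q := by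
    intro σ
    have hq : q ≠ 0 := by
      rintro rfl
      have := Fintype.card_pos (α := F)
      rw [hF] at this
      norm_num at this
    refine mem_su_of_orth hF ?_ ?_
    · change ((σ⁻¹).1.permMatrix F)ᵀ * (σ⁻¹).1.permMatrix F = 1
      rw [Matrix.transpose_permMatrix, ← Matrix.permMatrix_mul]
      simp
    · intro i j
      change ((σ⁻¹).1.permMatrix F i j) ^ q = (σ⁻¹).1.permMatrix F i j
      rw [Equiv.Perm.permMatrix, PEquiv.toMatrix_apply]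
      split_ifs
      · exact one_pow q
      · exact zero_pow hq
  obtain ⟨H, hH⟩ := hasMS_alt hn
  let f : alternatingGroup (Fin n) →* SU n F q :=
    { toFun := fun σ => ⟨altHom F n σ, hmem σ⟩
      map_one' := Subtype.ext (map_one _)
      map_mul' := fun a b => Subtype.ext (map_mul _ _ _) }
  refine HasMS.of_injective f (fun σ τ h => ?_) ⟨H, hH⟩
  have h1 : (σ⁻¹).1.permMatrix F = (τ⁻¹).1.permMatrix F := congrArg (fun x : SU n F q => x.1.1) h
  have h2 : (σ⁻¹).1 = (τ⁻¹).1 := by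
    apply Equiv.ext
    intro i
    have h3 := congrFun (congrFun h1 i) ((σ⁻¹).1 i)
    simp only [Equiv.Perm.permMatrix, PEquiv.toMatrix_apply, Equiv.toPEquiv_apply, Option.mem_def,
      Option.some.injEq] at h3
    by_contra hne
    rw [if_pos trivial, if_neg (Ne.symm hne)] at h3
    exact one_ne_zero h3
  exact inv_injective (Subtype.ext h2)

theorem hasMS_su_four_le {F : Type*} [Field F] [Fintype F] {q : ℕ} (hF : Fintype.card F = q ^ 2) (hq : 4 ≤ q) :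
    HasMS (SU 3 F q) := by
  obtain ⟨p, hchar⟩ := CharP.exists F
  have hp : Fact p.Prime := ⟨CharP.char_is_prime F p⟩
  obtain ⟨n, hpp, hn⟩ := FiniteField.card F p
  have hn' : p ^ (n : ℕ) = q ^ 2 := by rw [← hn, hF]
  obtain ⟨k, hk⟩ : ∃ k, q = p ^ k := by
    have : q ∣ p ^ (n : ℕ) := by rw [hn']; exact dvd_pow_self q two_ne_zero
    obtain ⟨k, -, hk⟩ := (Nat.dvd_prime_pow hpp).1 this
    exact ⟨k, hk⟩
  have hk0 : k ≠ 0 := by
    rintro rfl
    rw [pow_zero] at hk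
    omega
  have : Fintype (GaloisField p k) := Fintype.ofFinite _
  have hK : Fintype.card (GaloisField p k) = q := by
    have := GaloisField.card p k hk0
    rw [Nat.card_eq_fintype_card] at this
    rw [this, hk]
  obtain ⟨f⟩ := ClassicalGeometry.PSL2Basic.exists_ringHom_of_card_pow (K := GaloisField p k) (L := F) (m := 2)
    (by rw [hK, hF])
  by_cases hp2 : p = 2
  · subst hp2
    obtain ⟨e⟩ := S0281.result (F := F) (K := GaloisField 2 k) hF hK
    have h1 : HasMS (Matrix.SpecialLinearGroup (Fin 2) (GaloisField 2 k)) :=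
      hasMS_sl_two_even (by rw [hK]; exact hq) (by exact_mod_cast CharP.cast_eq_zero (GaloisField 2 k) 2)
    exact (h1.congr e.symm).of_injective _ (Phan.emb_injective hF 0 (by norm_num : 0 + 2 ≤ 3))
  · have h2 : (2 : GaloisField p k) ≠ 0 := by
      intro h
      have : (p : ℕ) ∣ 2 := (CharP.cast_eq_zero_iff (GaloisField p k) p 2).1 (by exact_mod_cast h)
      exact hp2 ((Nat.prime_dvd_prime_iff_eq hpp Nat.prime_two).1 this)
    obtain ⟨a, b, hab⟩ := exists_sq_add_sq (GaloisField p k)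
    let g : Matrix.SpecialLinearGroup (Fin 2) (GaloisField p k) →* Matrix.SpecialLinearGroup (Fin 3) F :=
      (Matrix.SpecialLinearGroup.map f).comp (so h2 hab)
    have hg : ∀ A, (g A).1 = (so h2 hab A).1.map f := fun A => rfl
    have hmem : ∀ A, g A ∈ SU 3 F q := by
      intro A
      refine mem_su_of_orth hF ?_ ?_
      · rw [hg, ← Matrix.transpose_map, ← Matrix.map_mul, so_transpose]
        ext i j
        by_cases hij : i = j <;> simp [Matrix.one_apply, hij]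
      · intro i j
        rw [hg, Matrix.map_apply, ← map_pow, ← hK, FiniteField.pow_card]
    let g' : Matrix.SpecialLinearGroup (Fin 2) (GaloisField p k) →* SU 3 F q :=
      { toFun := fun σ => ⟨g σ, hmem σ⟩
        map_one' := Subtype.ext (map_one _)
        map_mul' := fun a b => Subtype.ext (map_mul _ _ _) }
    refine hasMS_of_so (by rw [hK]; exact hq) h2 hab g' fun A => ?_
    constructor
    · intro h
      have h1 : (so h2 hab A).1.map f = 1 := congrArg (fun x : SU 3 F q => x.1.1) h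
      apply Subtype.ext
      ext i j
      apply f.injective
      have h3 := congrFun (congrFun h1 i) j
      rw [Matrix.map_apply] at h3
      rw [h3]
      by_cases hij : i = j <;> simp [Matrix.one_apply, hij]
    · intro h
      apply Subtype.ext
      change (Matrix.SpecialLinearGroup.map f) (so h2 hab A) = 1
      rw [h, map_one]

/-! ### `L₃(2)` from six involutions -/

/-- the six root involutions -/
structure Hex {G : Type*} [Group G] (r : Fin 6 → G) : Prop where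
  sq : ∀ i, r i * r i = 1
  comm : ∀ i, r i * r (i + 1) = r (i + 1) * r i
  br : ∀ i, r i * r (i + 2) * r i * r (i + 2) = r (i + 1)

/-- the root `e_i - e_j` on the hexagon -/
def hexIdx (i j : Fin 3) : Fin 6 :=
  if i = 0 then (if j = 1 then 0 else 1) else if i = 1 then (if j = 2 then 2 else 3) else if j = 0 then 4 else 5

theorem Hex.inv {G : Type*} [Group G] {r : Fin 6 → G} (h : Hex r) (i : Fin 6) : (r i)⁻¹ = r i :=
  inv_eq_of_mul_eq_one_left (h.sq i)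

theorem Hex.br' {G : Type*} [Group G] {r : Fin 6 → G} (h : Hex r) (i : Fin 6) :
    r (i + 2) * r i * r (i + 2) * r i = r (i + 1) := by
  have h1 := congrArg (·⁻¹) (h.br i)
  simp only [_root_.mul_inv_rev, h.inv] at h1
  rw [← h1]
  simp only [mul_assoc]

/-- the root elements over the field of two elements -/
def hexX {G : Type*} [Group G] (r : Fin 6 → G) (i j : Fin 3) (a : ZMod 2) : G :=
  if a = 0 then 1 else r (hexIdx i j)

theorem Hex.stein {G : Type*} [Group G] {r : Fin 6 → G} (h : Hex r) : AGraded.SteinRel (hexX r) := by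
  have hidx : ∀ i j k l : Fin 3, (i ≠ j ∧ k ≠ l ∧ j ≠ k ∧ i ≠ l) →
      hexIdx i j = hexIdx k l ∨ hexIdx k l = hexIdx i j + 1 ∨ hexIdx i j = hexIdx k l + 1 := by decide
  have hbr : ∀ i j k : Fin 3, (i ≠ j ∧ j ≠ k ∧ i ≠ k) →
      (hexIdx j k = hexIdx i j + 2 ∧ hexIdx i k = hexIdx i j + 1) ∨
      (hexIdx i j = hexIdx j k + 2 ∧ hexIdx i k = hexIdx j k + 1) := by decide
  have h2 : ∀ a : ZMod 2, a = 0 ∨ a = 1 := by decide
  refine ⟨?_, ?_, ?_⟩
  · intro i j _ a b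
    rcases h2 a with rfl | rfl <;> rcases h2 b with rfl | rfl
    · simp [hexX]
    · simp [hexX]
    · simp [hexX]
    · have : (1 : ZMod 2) + 1 = 0 := by decide
      simp [hexX, this, h.sq]
  · intro i j k l hij hkl hjk hil a b
    rcases h2 a with rfl | rfl <;> rcases h2 b with rfl | rfl
    · simp [hexX]
    · simp [hexX]
    · simp [hexX]
    · simp only [hexX, one_ne_zero, if_false]
      rcases hidx i j k l ⟨hij, hkl, hjk, hil⟩ with e | e | e
      · rw [e]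
      · rw [e]; exact h.comm _
      · rw [e]; exact (h.comm _).symm
  · intro i j k hij hjk hik a b
    rcases h2 a with rfl | rfl <;> rcases h2 b with rfl | rfl
    · simp [hexX, commutatorElement_def]
    · simp [hexX, commutatorElement_def]
    · simp [hexX, commutatorElement_def]
    · simp only [hexX, one_ne_zero, if_false, mul_one, commutatorElement_def, h.inv]
      rcases hbr i j k ⟨hij, hjk, hik⟩ with ⟨e1, e2⟩ | ⟨e1, e2⟩
      · rw [e1, e2]; exact h.br _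
      · rw [e1, e2]; exact h.br' _

theorem hasMS_of_hex {G : Type*} [Group G] {r : Fin 6 → G} (h : Hex r) (hne : r 0 ≠ 1) : HasMS G := by
  obtain ⟨π, hπ, -, hk⟩ := AGraded.exists_hom_finite h.stein (by simp)
  have hker := hk ⟨0, 1, by decide, 1, by simpa [hexX, hexIdx] using hne⟩
  exact hasMS_sl_three_two.of_hom π fun x hx => hker hx

/-! ### `SU₃(3)` -/

open Cfsg.Agent.Classification.RTwo.UThreeThree in
/-- the six matrices -/
def su33 : Fin 6 → Matrix (Fin 3) (Fin 3) K9 :=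
  ![!![⟨0, 0⟩, ⟨1, 2⟩, ⟨2, 1⟩; ⟨1, 1⟩, ⟨1, 0⟩, ⟨1, 0⟩; ⟨2, 2⟩, ⟨1, 0⟩, ⟨1, 0⟩],
    !![⟨0, 0⟩, ⟨2, 1⟩, ⟨1, 2⟩; ⟨2, 2⟩, ⟨1, 0⟩, ⟨1, 0⟩; ⟨1, 1⟩, ⟨1, 0⟩, ⟨1, 0⟩],
    !![⟨1, 0⟩, ⟨2, 0⟩, ⟨1, 1⟩; ⟨2, 0⟩, ⟨1, 0⟩, ⟨1, 1⟩; ⟨1, 2⟩, ⟨1, 2⟩, ⟨0, 0⟩],
    !![⟨0, 0⟩, ⟨2, 0⟩, ⟨0, 0⟩; ⟨2, 0⟩, ⟨0, 0⟩, ⟨0, 0⟩; ⟨0, 0⟩, ⟨0, 0⟩, ⟨2, 0⟩],
    !![⟨0, 0⟩, ⟨1, 0⟩, ⟨0, 0⟩; ⟨1, 0⟩, ⟨0, 0⟩, ⟨0, 0⟩; ⟨0, 0⟩, ⟨0, 0⟩, ⟨2, 0⟩],
    !![⟨1, 0⟩, ⟨1, 0⟩, ⟨2, 2⟩; ⟨1, 0⟩, ⟨1, 0⟩, ⟨1, 1⟩; ⟨2, 1⟩, ⟨1, 2⟩, ⟨0, 0⟩]]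

open Cfsg.Agent.Classification.RTwo.UThreeThree in
theorem su33_good : ∀ i, IsGood (su33 i) := by decide +kernel

open Cfsg.Agent.Classification.RTwo.UThreeThree in
theorem hasMS_su_three_three {F : Type*} [Field F] [Fintype F] (hF : Fintype.card F = 9) :
    HasMS (SU 3 F 3) := by
  have hcard : Fintype.card F = Fintype.card K9 := by rw [hF, card_k9]
  obtain ⟨e⟩ : Nonempty (F ≃+* K9) := ⟨FiniteField.ringEquivOfCardEq hcard⟩
  refine HasMS.congr (LieClassical.FieldTransfer.suCongr 3 3 e).symm ?_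
  refine hasMS_of_hex (r := fun i => (su33_good i).su) ⟨fun i => ?_, fun i => ?_, fun i => ?_⟩ ?_
  · apply su_ext
    change su33 i * su33 i = 1
    revert i
    decide +kernel
  · apply su_ext
    change su33 i * su33 (i + 1) = su33 (i + 1) * su33 i
    revert i
    decide +kernel
  · apply su_ext
    change su33 i * su33 (i + 2) * su33 i * su33 (i + 2) = su33 (i + 1)
    revert i
    decide +kernel
  · intro h
    have h1 : su33 0 = 1 := congrArg Classification.RTwo.UThreeThree.mt h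
    revert h1
    decide +kernel

/-! ### `SU₄(2)` -/

/-- the field with four elements -/
abbrev K4 := QuadraticAlgebra (ZMod 2) 1 1

instance k4Fact : Fact (∀ r : ZMod 2, r ^ 2 ≠ 1 + 1 * r) := ⟨by decide⟩

noncomputable instance k4Fintype : Fintype K4 :=
  Fintype.ofEquiv _ (QuadraticAlgebra.equivProd (1 : ZMod 2) 1).symm

theorem card_k4 : Fintype.card K4 = 2 ^ 2 := by
  rw [Fintype.card_congr (QuadraticAlgebra.equivProd (1 : ZMod 2) 1)]
  rfl

def u42 : Fin 3 → Matrix (Fin 4) (Fin 4) K4 :=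
  ![!![⟨0, 0⟩, ⟨1, 0⟩, ⟨1, 0⟩, ⟨1, 1⟩; ⟨0, 1⟩, ⟨0, 1⟩, ⟨0, 1⟩, ⟨0, 0⟩; ⟨1, 0⟩, ⟨1, 0⟩, ⟨0, 0⟩, ⟨1, 1⟩;
      ⟨1, 0⟩, ⟨0, 0⟩, ⟨1, 0⟩, ⟨1, 1⟩],
    !![⟨0, 0⟩, ⟨0, 0⟩, ⟨0, 0⟩, ⟨1, 0⟩; ⟨1, 0⟩, ⟨0, 0⟩, ⟨0, 0⟩, ⟨0, 0⟩; ⟨0, 0⟩, ⟨0, 0⟩, ⟨1, 0⟩, ⟨0, 0⟩;
      ⟨0, 0⟩, ⟨1, 0⟩, ⟨0, 0⟩, ⟨0, 0⟩],
    !![⟨1, 0⟩, ⟨0, 0⟩, ⟨0, 0⟩, ⟨0, 0⟩; ⟨0, 0⟩, ⟨0, 0⟩, ⟨1, 0⟩, ⟨0, 0⟩; ⟨0, 0⟩, ⟨0, 0⟩, ⟨0, 0⟩, ⟨1, 0⟩;
      ⟨0, 0⟩, ⟨1, 0⟩, ⟨0, 0⟩, ⟨0, 0⟩]]

theorem u42_det : ∀ i, (u42 i).det = 1 := by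
  intro i
  rw [Matrix.det_succ_row_zero]
  simp only [Fin.sum_univ_four, Matrix.det_fin_three]
  revert i
  decide +kernel

theorem u42_unitary : ∀ k, ∀ i j : Fin 4,
    ∑ l : Fin 4, (u42 k) l i * ((u42 k) l j * (u42 k) l j) = if i = j then (1 : K4) else 0 := by decide +kernel

open Cfsg.Agent.LieClassical.GUOrder in
theorem u42_mem (k : Fin 3) : (⟨u42 k, u42_det k⟩ : Matrix.SpecialLinearGroup (Fin 4) K4) ∈ SU 4 K4 2 := by
  refine (mul_map_eq_one_iff card_k4 (u42 k)).2 (Matrix.ext fun i j => ?_)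
  rw [Matrix.mul_apply, Matrix.one_apply, ← u42_unitary k i j]
  refine Finset.sum_congr rfl fun l _ => ?_
  rw [Matrix.transpose_apply, Matrix.map_apply, frob_apply, sq]

theorem hasMS_su_four_two {F : Type*} [Field F] [Fintype F] (hF : Fintype.card F = 4) :
    HasMS (SU 4 F 2) := by
  have hcard : Fintype.card F = Fintype.card K4 := by rw [hF, card_k4]; norm_num
  obtain ⟨e⟩ : Nonempty (F ≃+* K4) := ⟨FiniteField.ringEquivOfCardEq hcard⟩
  refine HasMS.congr (LieClassical.FieldTransfer.suCongr 4 2 e).symm ?_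
  have ext' : ∀ {x y : SU 4 K4 2}, x.1.1 = y.1.1 → x = y := fun h => Subtype.ext (Subtype.ext h)
  have cube : ∀ k, (⟨_, u42_mem k⟩ : SU 4 K4 2) ^ 3 = 1 := by
    intro k
    rw [pow_succ, sq]
    apply ext'
    change u42 k * u42 k * u42 k = 1
    revert k
    decide +kernel
  have rel : ∀ k l, k < l → ((⟨_, u42_mem k⟩ : SU 4 K4 2) * ⟨_, u42_mem l⟩) ^ 2 = 1 := by
    intro k l
    rw [sq]
    intro h
    apply ext'
    change u42 k * u42 l * (u42 k * u42 l) = 1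
    revert k l
    decide +kernel
  refine hasMS_of_triple (⟨_, u42_mem 0⟩ : SU 4 K4 2) ⟨_, u42_mem 1⟩ ⟨_, u42_mem 2⟩ (cube 0) (cube 1) (cube 2)
    (rel 0 1 (by decide)) (rel 0 2 (by decide)) (rel 1 2 (by decide)) fun h => ?_
  have h1 : u42 0 = 1 := congrArg (fun x : SU 4 K4 2 => x.1.1) h
  revert h1
  decide +kernel

theorem hasMS_of_psu {G : Type*} [Group G] (h : IsPSU G) : HasMS G := by
  obtain ⟨F, _, _, n, q, hF, hn, hne, ⟨e⟩⟩ := h
  refine HasMS.congr e.symm (HasMS.quot_center ?_)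
  have hq : 2 ≤ q := LieClassical.GUOrder.two_le hF
  rcases Nat.lt_or_ge 4 n with h5 | h4
  · exact hasMS_su_five hF h5
  have emb : ∀ {m : ℕ}, m ≤ n → HasMS (SU m F q) → HasMS (SU n F q) := fun {m} hm h =>
    h.of_injective _ (Phan.emb_injective hF 0 (by omega : 0 + m ≤ n))
  rcases Nat.lt_or_ge q 4 with hq4 | hq4
  · interval_cases q
    · -- q = 2
      have hn4 : n = 4 := by
        have : n ≠ 3 := fun h => hne ⟨h, rfl⟩
        omega
      subst hn4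
      exact hasMS_su_four_two (by rw [hF]; norm_num)
    · exact emb hn (hasMS_su_three_three (by rw [hF]; norm_num))
  · exact emb hn (hasMS_su_four_le hF hq4)

end Cfsg.Agent.H46.MS
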