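import Cfsg.Prelude.Def_CaseTheorems
import Cfsg.Agent.Lib.AltCarmichael
import Cfsg.Agent.S0252
import Cfsg.Agent.S0804
import Cfsg.Agent.S0810

/-!
# Minimal simple subgroups (helper46)

`HasMS G`: some subgroup of `G` is a minimal simple group. Transport, `A₅`, `PSL₂`.
-/

set_option autoImplicit false

namespace Cfsg.Agent.H46.MS

open Subgroup Cfsg
open scoped commutatorElement

/-- some subgroup is a minimal simple group -/
def HasMS (G : Type*) [Group G] : Prop := ∃ H : Subgroup G, IsMinimalSimple ↥H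

theorem isMulCommutative_congr {G K : Type*} [Group G] [Group K] (e : G ≃* K) (h : IsMulCommutative K) :
    IsMulCommutative G :=
  ⟨⟨fun a b => e.injective (by rw [map_mul, map_mul]; exact h.is_comm.comm _ _)⟩⟩

theorem isMinimalSimple_congr {G K : Type*} [Group G] [Group K] (e : G ≃* K) (h : IsMinimalSimple G) :
    IsMinimalSimple K := by
  obtain ⟨h1, h2, h3⟩ := h
  refine ⟨e.symm.isSimpleGroup, fun h => h2 (isMulCommutative_congr e h), fun H hH => ?_⟩
  have hne : H.comap e.toMonoidHom ≠ ⊤ := by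
    intro ht
    apply hH
    rw [eq_top_iff]
    intro x _
    have : e.symm x ∈ H.comap e.toMonoidHom := by rw [ht]; trivial
    simpa using this
  have := h3 _ hne
  let f : ↥H →* ↥(H.comap e.toMonoidHom) :=
    { toFun := fun x => ⟨e.symm x.1, by simp⟩
      map_one' := by ext; simp
      map_mul' := fun x y => Subtype.ext (map_mul e.symm x.1 y.1) }
  exact Group.isSolvable_of_isSolvable_injective (f := f) fun x y hxy =>
    Subtype.ext (e.symm.injective (congrArg Subtype.val hxy))

theorem IsMinimalSimple.hasMS {G : Type*} [Group G] (h : IsMinimalSimple G) : HasMS G :=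
  ⟨⊤, isMinimalSimple_congr Subgroup.topEquiv.symm h⟩

theorem not_comm_of {G : Type*} [Group G] (h : IsMinimalSimple G) : ∃ a b : G, a * b ≠ b * a := by
  by_contra hc
  push Not at hc
  exact h.2.1 ⟨⟨hc⟩⟩

/-- a homomorphism with central kernel -/
theorem HasMS.of_hom {G K : Type*} [Group G] [Group K] (f : G →* K) (hf : ∀ x, f x = 1 → x ∈ center G)
    (h : HasMS G) : HasMS K := by
  obtain ⟨H, hH⟩ := h
  have hs := hH.1
  let g : ↥H →* K := f.comp H.subtype
  have hker : g.ker = ⊥ := by
    rcases hs.eq_bot_or_eq_top_of_normal g.ker inferInstance with h | h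
    · exact h
    · exfalso
      apply hH.2.1
      refine ⟨⟨fun a b => Subtype.ext ?_⟩⟩
      have ha : a ∈ g.ker := by rw [h]; trivial
      exact (mem_center_iff.1 (hf a.1 ha) b.1).symm
  have hinj : Function.Injective g := (MonoidHom.ker_eq_bot_iff g).1 hker
  exact ⟨g.range, isMinimalSimple_congr (MonoidHom.ofInjective hinj) hH⟩

theorem HasMS.of_injective {G K : Type*} [Group G] [Group K] (f : G →* K) (hf : Function.Injective f)
    (h : HasMS G) : HasMS K :=
  h.of_hom f fun x hx => by
    rw [(injective_iff_map_eq_one f).1 hf x hx]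
    exact one_mem _

theorem HasMS.congr {G K : Type*} [Group G] [Group K] (e : G ≃* K) (h : HasMS G) : HasMS K :=
  h.of_injective e.toMonoidHom e.injective

theorem HasMS.of_subgroup {G : Type*} [Group G] {H : Subgroup G} (h : HasMS ↥H) : HasMS G :=
  h.of_injective H.subtype H.subtype_injective

theorem HasMS.of_le {G : Type*} [Group G] {H K : Subgroup G} (hHK : H ≤ K) (h : HasMS ↥H) : HasMS ↥K :=
  h.of_injective (Subgroup.inclusion hHK) (Subgroup.inclusion_injective hHK)

/-- quotient by a central subgroup -/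
theorem HasMS.quot {G : Type*} [Group G] (N : Subgroup G) [N.Normal] (hN : N ≤ center G) (h : HasMS G) :
    HasMS (G ⧸ N) :=
  h.of_hom (QuotientGroup.mk' N) fun x hx => hN ((QuotientGroup.eq_one_iff x).1 hx)

theorem HasMS.quot_center {G : Type*} [Group G] (h : HasMS G) : HasMS (G ⧸ center G) :=
  h.quot _ le_rfl

/-- a non-abelian simple group is perfect -/
theorem commutator_eq_top {G : Type*} [Group G] [IsSimpleGroup G] (h : ¬ IsMulCommutative G) :
    commutator G = ⊤ := by
  rcases (inferInstance : IsSimpleGroup G).eq_bot_or_eq_top_of_normal (commutator G) inferInstance with h1 | h1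
  · exfalso
    apply h
    refine ⟨⟨fun a b => ?_⟩⟩
    have : ⁅a, b⁆ ∈ commutator G := commutator_mem_commutator (mem_top a) (mem_top b)
    rw [h1, mem_bot, commutatorElement_eq_one_iff_mul_comm] at this
    exact this
  · exact h1

theorem HasMS.commutator {G : Type*} [Group G] (h : HasMS G) : HasMS ↥(_root_.commutator G) := by
  obtain ⟨H, hH⟩ := h
  have := hH.1
  have hp := commutator_eq_top hH.2.1
  have hle : H ≤ _root_.commutator G := by
    have h1 : (⊤ : Subgroup ↥H).map H.subtype = H := by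
      rw [← MonoidHom.range_eq_map, Subgroup.range_subtype]
    rw [← h1, ← hp]
    unfold _root_.commutator
    rw [map_commutator]
    exact commutator_mono le_top le_top
  refine ⟨H.subgroupOf _, isMinimalSimple_congr (Subgroup.subgroupOfEquivOfLe hle).symm hH⟩

/-- a non-trivial homomorphism out of a minimal simple group -/
theorem hasMS_of_ne {S G : Type*} [Group S] [Group G] (hS : IsMinimalSimple S) (f : S →* G)
    (hf : ∃ x, f x ≠ 1) : HasMS G := by
  have := hS.1
  have hker : f.ker = ⊥ := by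
    rcases this.eq_bot_or_eq_top_of_normal f.ker inferInstance with h | h
    · exact h
    · obtain ⟨x, hx⟩ := hf
      exact absurd (show x ∈ f.ker by rw [h]; trivial) hx
  exact (IsMinimalSimple.hasMS hS).of_injective f ((MonoidHom.ker_eq_bot_iff f).1 hker)

/-! ### `A₅` -/

theorem isMinimalSimple_alt_five : IsMinimalSimple (alternatingGroup (Fin 5)) := by
  have : Fintype (GaloisField 2 2) := Fintype.ofFinite _
  have h4 : Fintype.card (GaloisField 2 2) = 4 := by
    have := GaloisField.card 2 2 (by norm_num)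
    rw [Nat.card_eq_fintype_card] at this
    simpa using this
  obtain ⟨e⟩ := S0252.result h4
  exact isMinimalSimple_congr e ((S0810.result h4).2 (Or.inl ⟨2, Nat.prime_two, by norm_num⟩))

/-- `A₅` from three elements of order three with `(x y)² = 1` -/
theorem hasMS_of_triple {G : Type*} [Group G] (x y z : G) (hx : x ^ 3 = 1) (hy : y ^ 3 = 1) (hz : z ^ 3 = 1)
    (hxy : (x * y) ^ 2 = 1) (hxz : (x * z) ^ 2 = 1) (hyz : (y * z) ^ 2 = 1) (hne : x ≠ 1) : HasMS G := by
  have sw : ∀ a b : G, (a * b) ^ 2 = 1 → (b * a) ^ 2 = 1 := fun a b h => Lib.AltCarmichael.swap_rel h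
  let w : ℕ → G := fun i => if i = 0 then x else if i = 1 then y else z
  have hrel : Lib.AltCarmichael.Rel 3 w := by
    constructor
    · intro i hi
      interval_cases i <;> simpa [w]
    · intro i hi j hj hij
      interval_cases i <;> interval_cases j <;>
        first
          | exact absurd rfl hij
          | exact hxy
          | exact hxz
          | exact hyz
          | exact sw _ _ hxy
          | exact sw _ _ hxz
          | exact sw _ _ hyz
  obtain ⟨e⟩ := Lib.AltCarmichael.nonempty_gen_equiv le_rfl hrel ⟨0, by norm_num, by simpa [w] using hne⟩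
  exact HasMS.of_subgroup (HasMS.congr e.symm (IsMinimalSimple.hasMS isMinimalSimple_alt_five))

theorem hasMS_alt {n : ℕ} (hn : 5 ≤ n) : HasMS (alternatingGroup (Fin n)) := by
  have h3 : ∀ a b c : Fin n, a ≠ b → a ≠ c → b ≠ c → (Equiv.swap a b * Equiv.swap b c) ^ 3 = 1 :=
    fun a b c hab hac hbc => Lib.AltCarmichael.three_cube hab hac hbc
  let a : Fin n := ⟨0, by omega⟩
  let b : Fin n := ⟨1, by omega⟩
  let c : Fin n := ⟨2, by omega⟩
  let d : Fin n := ⟨3, by omega⟩
  let e : Fin n := ⟨4, by omega⟩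
  have hab : a ≠ b := by simp [a, b, Fin.ext_iff]
  have hac : a ≠ c := by simp [a, c, Fin.ext_iff]
  have hbc : b ≠ c := by simp [b, c, Fin.ext_iff]
  have had : a ≠ d := by simp [a, d, Fin.ext_iff]
  have hae : a ≠ e := by simp [a, e, Fin.ext_iff]
  have hbd : b ≠ d := by simp [b, d, Fin.ext_iff]
  have hbe : b ≠ e := by simp [b, e, Fin.ext_iff]
  have hcd : c ≠ d := by simp [c, d, Fin.ext_iff]
  have hce : c ≠ e := by simp [c, e, Fin.ext_iff]
  have hde : d ≠ e := by simp [d, e, Fin.ext_iff]
  have mem : ∀ i : Fin n, i ≠ d → Equiv.swap i d * Equiv.swap d e ∈ alternatingGroup (Fin n) := by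
    intro i hi
    rw [Equiv.Perm.mem_alternatingGroup, map_mul, Equiv.Perm.sign_swap hi, Equiv.Perm.sign_swap hde]
    rfl
  refine hasMS_of_triple ⟨_, mem a had⟩ ⟨_, mem b hbd⟩ ⟨_, mem c hcd⟩ ?_ ?_ ?_ ?_ ?_ ?_ ?_
  · exact Subtype.ext (h3 _ _ _ had hae hde)
  · exact Subtype.ext (h3 _ _ _ hbd hbe hde)
  · exact Subtype.ext (h3 _ _ _ hcd hce hde)
  · exact Subtype.ext (Lib.AltCarmichael.two_sq hab had hae hbd hbe hde)
  · exact Subtype.ext (Lib.AltCarmichael.two_sq hac had hae hcd hce hde)
  · exact Subtype.ext (Lib.AltCarmichael.two_sq hbc hbd hbe hcd hce hde)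
  · intro h
    have h' := congrArg (fun p : Equiv.Perm (Fin n) => p d) (congrArg Subtype.val h)
    simp only [Equiv.Perm.mul_apply, Equiv.swap_apply_left, Subgroup.coe_one, Equiv.Perm.one_apply] at h'
    rw [Equiv.swap_apply_of_ne_of_ne (Ne.symm hae) (Ne.symm hde)] at h'
    exact hde h'.symm

theorem hasMS_of_alt {G : Type*} [Group G] (h : IsAlternating G) : HasMS G := by
  obtain ⟨n, hn, ⟨e⟩⟩ := h
  exact (hasMS_alt hn).congr e.symm

/-! ### `PSL₂` -/

open Cfsg.Agent.ClassicalGeometry.PSL2Basic in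
theorem hasMS_psl_two_of_hom {K L : Type*} [Field K] [Field L] (f : K →+* L)
    (h : HasMS (Matrix.ProjectiveSpecialLinearGroup (Fin 2) K)) :
    HasMS (Matrix.ProjectiveSpecialLinearGroup (Fin 2) L) :=
  h.of_injective _ (pslMap_injective (f := f))

theorem mod_five {q : ℕ} (hq : ¬ 5 ∣ q * (q ^ 2 - 1)) : q % 5 = 2 ∨ q % 5 = 3 := by
  by_contra hc
  push Not at hc
  apply hq
  rcases Nat.eq_zero_or_pos q with h0 | h0
  · rw [h0]; simp
  obtain ⟨c, rfl⟩ : ∃ c, q = c + 1 := ⟨q - 1, by omega⟩
  have h2 : (c + 1) ^ 2 - 1 = c * (c + 2) := by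
    have : (c + 1) ^ 2 = c * (c + 2) + 1 := by ring
    omega
  rw [h2]
  have hcb : c % 5 = 0 ∨ c % 5 = 3 ∨ c % 5 = 4 := by omega
  rcases hcb with h | h | h
  · exact Dvd.dvd.mul_left (Dvd.dvd.mul_right (Nat.dvd_of_mod_eq_zero h) _) _
  · exact Dvd.dvd.mul_left (Dvd.dvd.mul_left (Nat.dvd_of_mod_eq_zero (by omega)) _) _
  · exact Dvd.dvd.mul_right (Nat.dvd_of_mod_eq_zero (by omega)) _

open Cfsg.Agent.ClassicalGeometry.PSL2Basic in
theorem hasMS_psl_two {F : Type*} [Field F] [Fintype F] (hF : 4 ≤ Fintype.card F) :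
    HasMS (Matrix.ProjectiveSpecialLinearGroup (Fin 2) F) := by
  by_cases h5 : 5 ∣ Fintype.card F * (Fintype.card F ^ 2 - 1)
  · obtain ⟨H, ⟨e⟩⟩ := (S0804.result rfl).2 h5
    exact HasMS.of_subgroup (HasMS.congr e.symm (IsMinimalSimple.hasMS isMinimalSimple_alt_five))
  obtain ⟨p, hchar⟩ := CharP.exists F
  have hp : Fact p.Prime := ⟨CharP.char_is_prime F p⟩
  obtain ⟨n, hpp, hn⟩ := FiniteField.card F p
  have hn0 : (n : ℕ) ≠ 0 := n.pos.ne'
  by_cases hn1 : (n : ℕ) = 1
  · rw [hn1, pow_one] at hn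
    refine IsMinimalSimple.hasMS ((S0810.result rfl).2 (Or.inr (Or.inr (Or.inl ⟨hn ▸ hpp, ?_, ?_⟩))))
    · by_contra hc
      push Not at hc
      interval_cases hq : Fintype.card F
      · exact absurd (hn ▸ hpp) (by norm_num)
      · exact h5 (by norm_num)
    · exact mod_five h5
  -- a prime divisor of the degree
  obtain ⟨r, hr, hrn⟩ := Nat.exists_prime_and_dvd hn1
  obtain ⟨m, hm⟩ := hrn
  have hcard : (p ^ r) ^ m = Fintype.card F := by rw [hn, hm, pow_mul]
  have : Fintype (GaloisField p r) := Fintype.ofFinite _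
  have hK : Fintype.card (GaloisField p r) = p ^ r := by
    have := GaloisField.card p r hr.ne_zero
    rwa [Nat.card_eq_fintype_card] at this
  obtain ⟨f⟩ := exists_ringHom_of_card_pow (K := GaloisField p r) (L := F) (m := m) (by rw [hK, hcard])
  apply hasMS_psl_two_of_hom f
  by_cases hp2 : p = 2
  · subst hp2
    exact IsMinimalSimple.hasMS ((S0810.result hK).2 (Or.inl ⟨r, hr, rfl⟩))
  by_cases hp3 : p = 3
  · subst hp3
    by_cases hr2 : r = 2
    · subst hr2
      obtain ⟨H, ⟨e⟩⟩ := (S0804.result hK).2 (by norm_num)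
      exact HasMS.of_subgroup (HasMS.congr e.symm (IsMinimalSimple.hasMS isMinimalSimple_alt_five))
    · exact IsMinimalSimple.hasMS ((S0810.result hK).2 (Or.inr (Or.inl ⟨r, hr, hr2, rfl⟩)))
  -- the prime field
  have h5p : 5 ≤ p := by
    have := hpp.two_le
    by_contra hc
    push Not at hc
    interval_cases p
    · exact hp2 rfl
    · exact hp3 rfl
    · exact absurd hpp (by norm_num)
  obtain ⟨g⟩ := exists_ringHom_of_card_pow (K := ZMod p) (L := GaloisField p r) (m := r) (by rw [hK, ZMod.card])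
  apply hasMS_psl_two_of_hom g
  by_cases h5' : 5 ∣ p * (p ^ 2 - 1)
  · obtain ⟨H, ⟨e⟩⟩ := (S0804.result (ZMod.card p)).2 h5'
    exact HasMS.of_subgroup (HasMS.congr e.symm (IsMinimalSimple.hasMS isMinimalSimple_alt_five))
  · refine IsMinimalSimple.hasMS ((S0810.result (ZMod.card p)).2 (Or.inr (Or.inr (Or.inl ⟨hpp, ?_, ?_⟩))))
    · rcases Nat.lt_or_ge 5 p with h | h
      · exact h
      · have : p = 5 := by omega
        subst this
        exact absurd (by norm_num) h5'
    · exact mod_five h5'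

end Cfsg.Agent.H46.MS
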